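import Groth.Agent.H0PBC.BaseChange
import Groth.Agent.BigSiteLib.FinitePushIso
import Groth.Agent.BigSiteLib.FppfDesc.Eps

/-!
# Proper direct images commute with pullback to the big sites
-/

set_option autoImplicit false

universe u

open CategoryTheory CategoryTheory.Limits AlgebraicGeometry Opposite

namespace Groth.Agent.H0PBC

open BigSiteLib

variable {X Y : Scheme.{u}} (f : X ⟶ Y) [IsProper f] (F : EtCoh.Ab X)

theorem isIso_theta_proper : IsIso (theta f F) := by
  refine isIso_of_resEtAlong _ fun {Y'} g => ?_
  have hsq := IsPullback.of_hasPullback f g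
  haveI hβ : IsIso (smallComp f F hsq) := isIso_baseChange_of_proper hsq F _ (smallComp_unit f F hsq)
  have e : (BigSite.resEtAlong Scheme.etalePrecoverage g).map (theta f F) =
      (resAlongPiPullIso g ((EtCoh.push f).obj F)).inv ≫ smallComp f F hsq ≫
        (EtCoh.push (pullback.snd f g)).map (resAlongPiPullIso (pullback.fst f g) F).hom ≫
        (resAlongPushIso f hsq).inv.app (piX F) := by
    simp only [smallComp, Category.assoc, Iso.inv_hom_id_assoc]
    rw [← Functor.map_comp_assoc, Iso.inv_hom_id, CategoryTheory.Functor.map_id, Category.id_comp, Iso.hom_inv_id_app]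
    exact (Category.comp_id _).symm
  rw [e]
  infer_instance

set_option backward.isDefEq.respectTransparency.types false in
open BigSiteLib.FppfDesc in
theorem aPull_push_iso [EtFppf.ACont X] [EtFppf.ACont Y] :
    Nonempty ((EtFppf.aPull Y).obj ((EtCoh.push f).obj F) ≅ (EtFppf.pushBig f).obj ((EtFppf.aPull X).obj F)) := by
  haveI := isIso_theta_proper f F
  let e : piFppf ((EtCoh.push f).obj F) ≅ (EtFppf.pushBig f).obj (piFppf F) :=
    (fullyFaithfulSheafToPresheaf _ _).preimageIso
      (show (piFppf ((EtCoh.push f).obj F)).obj ≅ _ from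
        (sheafToPresheaf (QuotSh.J Scheme.etalePrecoverage Y) _).mapIso (asIso (theta f F)))
  exact ⟨aPullIso _ ≪≫ e ≪≫ (EtFppf.pushBig f).mapIso (aPullIso F).symm⟩

end Groth.Agent.H0PBC
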