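import Groth.Agent.H0PBC.Core
import Groth.Agent.GeomSep.Basic

/-!
# Agreement of local data descends along an extension of a separably closed field
-/

set_option autoImplicit false
set_option linter.style.haveILetI false
set_option linter.unusedSectionVars false
set_option backward.isDefEq.respectTransparency false
set_option backward.isDefEq.respectTransparency.types false
universe u

open CategoryTheory CategoryTheory.Limits AlgebraicGeometry TopologicalSpace
open scoped TensorProduct

namespace Groth.Agent.H0PBC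

variable {R Ω : Type u} [CommRing R] [IsLocalRing R] [Field Ω] (j : IsLocalRing.ResidueField R →+* Ω)
  {S S' : Scheme.{u}} (s : S ⟶ Spec (CommRingCat.of R)) (π : S' ⟶ S) (s' : S' ⟶ Spec (CommRingCat.of Ω))
  (h : IsPullback π s' s (Spec.map (CommRingCat.ofHom (j.comp (IsLocalRing.residue R)))))

include h in
theorem apply_of_fibre (z : S') : s (π z) = IsLocalRing.closedPoint R := by
  rw [← Scheme.Hom.comp_apply, h.w, Scheme.Hom.comp_apply]
  refine PrimeSpectrum.ext ?_
  show (s' z).asIdeal.comap (j.comp (IsLocalRing.residue R)) = _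
  rw [← Ideal.comap_comap]
  refine Eq.trans (congrArg (Ideal.comap _) ?_) IsLocalRing.ker_residue
  rw [(Ideal.eq_bot_or_top (s' z).asIdeal).resolve_right (s' z).2.ne_top]
  exact Ideal.comap_bot_of_injective j j.injective

include h in
/-- the fibres of an extension of a separably closed residue field are connected -/
theorem isPreconnected_preimage [IsSepClosed (IsLocalRing.ResidueField R)] (q : S) :
    _root_.IsPreconnected (π ⁻¹' {q}) := by
  by_cases hq : s q = IsLocalRing.closedPoint R
  swap
  · rw [show π ⁻¹' {q} = ∅ from Set.eq_empty_of_forall_notMem fun z hz =>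
      hq ((congrArg s (show q = π z from hz.symm)).trans (apply_of_fibre j s π s' h z))]
    exact isPreconnected_empty
  let c := S.fromSpecResidueField q
  let D := pullback c π
  have hD : IsPullback (pullback.fst c π) (pullback.snd c π ≫ s') (c ≫ s)
      (Spec.map (CommRingCat.ofHom (j.comp (IsLocalRing.residue R)))) :=
    (IsPullback.of_hasPullback c π).paste_vert h
  let K : Type u := S.residueField q
  letI : Field K := inferInstanceAs (Field (S.residueField q))
  obtain ⟨φ', hφ'⟩ := Spec.map_surjective (c ≫ s)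
  let φ : R →+* K := φ'.hom
  have hφm : ∀ r ∈ IsLocalRing.maximalIdeal R, φ r = 0 := fun r hr => by
    have e : (Spec.map φ') (default : Spec (CommRingCat.of K)) = IsLocalRing.closedPoint R := by
      rw [hφ', Scheme.Hom.comp_apply]
      exact (congrArg s (Scheme.fromSpecResidueField_apply q _)).trans hq
    rw [show IsLocalRing.maximalIdeal R = _ from (congrArg PrimeSpectrum.asIdeal e).symm] at hr
    exact (show φ r ∈ (default : Spec (CommRingCat.of K)).asIdeal from hr) |> fun hr' => by
      rwa [(Ideal.eq_bot_or_top (default : Spec (CommRingCat.of K)).asIdeal).resolve_right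
        (default : Spec (CommRingCat.of K)).2.ne_top, Ideal.mem_bot] at hr'
  let φ₀ : IsLocalRing.ResidueField R →+* K := Ideal.Quotient.lift _ φ hφm
  letI : Algebra (IsLocalRing.ResidueField R) K := φ₀.toAlgebra
  letI : Algebra (IsLocalRing.ResidueField R) Ω := j.toAlgebra
  haveI : IrreducibleSpace ↥(Spec (CommRingCat.of (K ⊗[IsLocalRing.ResidueField R] Ω))) :=
    GeomSep.irreducibleSpace_tensor_fields (k := IsLocalRing.ResidueField R) K Ω
  let i := Spec.map (CommRingCat.ofHom (IsLocalRing.residue R))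
  haveI : IsClosedImmersion i := IsClosedImmersion.spec_of_surjective _ IsLocalRing.residue_surjective
  let a := Spec.map (CommRingCat.ofHom φ₀)
  let b := Spec.map (CommRingCat.ofHom j)
  have ha : a ≫ i = c ≫ s := by
    rw [← hφ', ← Spec.map_comp]; rfl
  have hb : b ≫ i = Spec.map (CommRingCat.ofHom (j.comp (IsLocalRing.residue R))) :=
    (Spec.map_comp _ _).symm
  let e : pullback a b ⟶ D := hD.lift (pullback.fst a b) (pullback.snd a b)
    (by rw [← ha, ← hb, pullback.condition_assoc])
  let e' : D ⟶ pullback a b := pullback.lift (pullback.fst c π) (pullback.snd c π ≫ s')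
    ((cancel_mono i).1 (by rw [Category.assoc, Category.assoc, ha, hb]; exact hD.w))
  have he' : e' ≫ e = 𝟙 D := hD.hom_ext
    (by rw [Category.assoc, hD.lift_fst, pullback.lift_fst, Category.id_comp])
    (by rw [Category.assoc, hD.lift_snd, pullback.lift_snd, Category.id_comp])
  have he : Function.Surjective ((pullbackSpecIso (IsLocalRing.ResidueField R) K Ω).inv ≫ e) := fun x => by
    refine ⟨(pullbackSpecIso (IsLocalRing.ResidueField R) K Ω).hom (e' x), ?_⟩
    rw [Scheme.Hom.comp_apply, ← Scheme.Hom.comp_apply (pullbackSpecIso (IsLocalRing.ResidueField R) K Ω).hom,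
      Iso.hom_inv_id]
    exact (Scheme.Hom.comp_apply e' e x).symm.trans (by rw [he']; rfl)
  haveI : PreconnectedSpace D := ⟨by
    rw [← he.range_eq]
    exact isPreconnected_range ((pullbackSpecIso (IsLocalRing.ResidueField R) K Ω).inv ≫ e).continuous⟩
  rw [show π ⁻¹' {q} = Set.range (pullback.snd c π) by
    rw [Scheme.Pullback.range_snd, Scheme.range_fromSpecResidueField]]
  exact isPreconnected_range (pullback.snd c π).continuous

include h in
/-- every point of the closed fibre lifts -/
theorem exists_preimage_of_fibre (q : S) (hq : s q = IsLocalRing.closedPoint R) :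
    ∃ z : S', π z = q ∧ True := by
  obtain ⟨z, hz, -⟩ := Scheme.exists_preimage_of_isPullback h q (default : Spec (CommRingCat.of Ω)) (by
    rw [hq]
    refine PrimeSpectrum.ext ?_
    show _ = (default : Spec (CommRingCat.of Ω)).asIdeal.comap (j.comp (IsLocalRing.residue R))
    rw [(Ideal.eq_bot_or_top (default : Spec (CommRingCat.of Ω)).asIdeal).resolve_right
      (default : Spec (CommRingCat.of Ω)).2.ne_top, ← Ideal.comap_comap,
      Ideal.comap_bot_of_injective j j.injective]
    exact (IsLocalRing.ker_residue (R := R)).symm)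
  exact ⟨z, hz, trivial⟩

/-- an open containing the closed points of an open of a Jacobson space contains it -/
theorem subset_of_closedPoints {T : Type u} [TopologicalSpace T] [JacobsonSpace T] {V D : Set T}
    (hV : IsOpen V) (hD : IsOpen D) (h : ∀ x ∈ V, IsClosed {x} → x ∈ D) : V ⊆ D := by
  intro x hx
  by_contra hxD
  obtain ⟨y, ⟨hyV, hyD⟩, hy⟩ := nonempty_inter_closedPoints (Z := V ∩ Dᶜ) ⟨x, hx, hxD⟩
    (hV.isLocallyClosed.inter hD.isClosed_compl.isLocallyClosed)
  exact hyD (h y hyV hy)

variable {α : Type u} {U : α → Scheme.{u}} (v : ∀ a, U a ⟶ S) [∀ a, Etale (v a)] [∀ a, QuasiCompact (v a)]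
  (E : ∀ a b, (pullback (v a) (v b)).Opens)

/-- the pieces after extension -/
noncomputable abbrev U' (a : α) : Scheme.{u} := pullback (v a) π

/-- their structure maps -/
noncomputable abbrev v' (a : α) : U' π v a ⟶ S' := pullback.snd (v a) π

/-- the comparison of fibre products -/
noncomputable abbrev proj2 (a b : α) : pullback (v' π v a) (v' π v b) ⟶ pullback (v a) (v b) :=
  pullback.map (v' π v a) (v' π v b) (v a) (v b) (pullback.fst (v a) π) (pullback.fst (v b) π) π
    pullback.condition.symm pullback.condition.symm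

variable {π v E} (Et : ∀ a, (U' π v a).Opens)

include h in
theorem agree_of_descent [IsSepClosed (IsLocalRing.ResidueField R)] [LocallyOfFiniteType s] (hE : IsEquivRel v E)
    (hcov : ∀ z : S', IsClosed {z} → ∃ (a : α) (x : U' π v a), x ∈ Et a ∧ v' π v a x = z)
    (hagree : ∀ a b (r : ↥(pullback (v' π v a) (v' π v b))), IsClosed {r} →
      pullback.fst (v' π v a) (v' π v b) r ∈ Et a → pullback.snd (v' π v a) (v' π v b) r ∈ Et b →
        proj2 π v a b r ∈ E a b) :
    (∀ a b (r : ↥(pullback (v' π v a) (v' π v b))),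
      pullback.fst (v a) π (pullback.fst (v' π v a) (v' π v b) r) ∈ pullback.fst (v a) π '' (Et a : Set _) →
      pullback.snd (v' π v a) (v' π v b) r ∈ Et b → proj2 π v a b r ∈ E a b) ∧
    ∀ a b (w : ↥(pullback (v a) (v b))), s (v a (pullback.fst (v a) (v b) w)) = IsLocalRing.closedPoint R →
      pullback.fst (v a) (v b) w ∈ pullback.fst (v a) π '' (Et a : Set _) →
      pullback.snd (v a) (v b) w ∈ pullback.fst (v b) π '' (Et b : Set _) → w ∈ E a b := by
  classical
  haveI : LocallyOfFiniteType s' := MorphismProperty.of_isPullback h inferInstance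
  haveI : JacobsonSpace (Spec (CommRingCat.of Ω)) := inferInstance
  haveI : JacobsonSpace S' := LocallyOfFiniteType.jacobsonSpace s'
  haveI : ∀ a, UniversallyOpen (v' π v a) := fun a => inferInstance
  -- points with the same first projection give pairs of second projections
  have htriple : ∀ (a b c : α) (r₁ : ↥(pullback (v' π v a) (v' π v b))) (r₂ : ↥(pullback (v' π v a) (v' π v c))),
      pullback.fst (v' π v a) (v' π v b) r₁ = pullback.fst (v' π v a) (v' π v c) r₂ →
      ∃ r₃ : ↥(pullback (v' π v b) (v' π v c)),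
        pullback.fst (v' π v b) (v' π v c) r₃ = pullback.snd (v' π v a) (v' π v b) r₁ ∧
        pullback.snd (v' π v b) (v' π v c) r₃ = pullback.snd (v' π v a) (v' π v c) r₂ ∧
        (proj2 π v a b r₁ ∈ E a b → proj2 π v b c r₃ ∈ E b c → proj2 π v a c r₂ ∈ E a c) ∧
        (proj2 π v a b r₁ ∈ E a b → proj2 π v a c r₂ ∈ E a c → proj2 π v b c r₃ ∈ E b c) ∧
        (proj2 π v a c r₂ ∈ E a c → proj2 π v b c r₃ ∈ E b c → proj2 π v a b r₁ ∈ E a b) := by
    intro a b c r₁ r₂ hr
    obtain ⟨t, ht₁, ht₂⟩ := Scheme.Pullback.exists_preimage_pullback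
      (f := pullback.fst (v' π v a) (v' π v b)) (g := pullback.fst (v' π v a) (v' π v c)) r₁ r₂ hr
    obtain ⟨Ω', _, _, τ, hτ⟩ := exists_geom_point t
    let p₁ := τ ≫ pullback.fst (pullback.fst (v' π v a) (v' π v b)) (pullback.fst (v' π v a) (v' π v c))
    let p₂ := τ ≫ pullback.snd (pullback.fst (v' π v a) (v' π v b)) (pullback.fst (v' π v a) (v' π v c))
    have hp₁ : p₁ default = r₁ := by rw [Scheme.Hom.comp_apply, hτ, ht₁]
    have hp₂ : p₂ default = r₂ := by rw [Scheme.Hom.comp_apply, hτ, ht₂]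
    have hpp : p₁ ≫ pullback.fst (v' π v a) (v' π v b) = p₂ ≫ pullback.fst (v' π v a) (v' π v c) := by
      simp only [p₁, p₂, Category.assoc, pullback.condition]
    let p₃ : Spec (CommRingCat.of Ω') ⟶ pullback (v' π v b) (v' π v c) :=
      pullback.lift (p₁ ≫ pullback.snd (v' π v a) (v' π v b)) (p₂ ≫ pullback.snd (v' π v a) (v' π v c)) (by
        simp only [p₁, p₂, Category.assoc]
        rw [← pullback.condition (f := v' π v a) (g := v' π v b), ← pullback.condition (f := v' π v a) (g := v' π v c),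
          pullback.condition_assoc])
    have hrel : ∀ (i k : α) (p : Spec (CommRingCat.of Ω') ⟶ pullback (v' π v i) (v' π v k)),
        proj2 π v i k (p default) ∈ E i k ↔ Rel v E i k ((p ≫ pullback.fst _ _) ≫ pullback.fst (v i) π)
          ((p ≫ pullback.snd _ _) ≫ pullback.fst (v k) π) := by
      intro i k p
      have hc : ((p ≫ pullback.fst _ _) ≫ pullback.fst (v i) π) ≫ v i =
          ((p ≫ pullback.snd _ _) ≫ pullback.fst (v k) π) ≫ v k := by
        simp only [Category.assoc, pullback.condition]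
        rw [pullback.condition_assoc]
      have e : pullback.lift _ _ hc = p ≫ proj2 π v i k := by
        refine pullback.hom_ext ?_ ?_
        · rw [pullback.lift_fst, Category.assoc, Category.assoc, pullback.lift_fst]
        · rw [pullback.lift_snd, Category.assoc, Category.assoc, pullback.lift_snd]
      rw [← Scheme.Hom.comp_apply, ← e]
      exact ⟨fun hm => ⟨hc, hm⟩, fun hm => hm.2⟩
    refine ⟨p₃ default, ?_, ?_, fun h₁ h₃ => ?_, fun h₁ h₂ => ?_, fun h₂ h₃ => ?_⟩
    · rw [← Scheme.Hom.comp_apply, pullback.lift_fst, Scheme.Hom.comp_apply, hp₁]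
    · rw [← Scheme.Hom.comp_apply, pullback.lift_snd, Scheme.Hom.comp_apply, hp₂]
    · rw [← hp₁, hrel] at h₁
      rw [hrel] at h₃
      rw [← hp₂, hrel]
      simp only [p₃, pullback.lift_fst, pullback.lift_snd] at h₃
      have := hE.trans _ _ _ Ω' _ _ _ h₁ h₃
      rwa [show (p₁ ≫ pullback.fst _ _) = p₂ ≫ pullback.fst _ _ from hpp] at this
    · rw [← hp₁, hrel] at h₁
      rw [← hp₂, hrel] at h₂
      rw [hrel]
      simp only [p₃, pullback.lift_fst, pullback.lift_snd]
      rw [show (p₁ ≫ pullback.fst _ _) = p₂ ≫ pullback.fst _ _ from hpp] at h₁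
      exact hE.trans _ _ _ Ω' _ _ _ (hE.symm _ _ Ω' _ _ h₁) h₂
    · rw [← hp₂, hrel] at h₂
      rw [hrel] at h₃
      rw [← hp₁, hrel]
      simp only [p₃, pullback.lift_fst, pullback.lift_snd] at h₃
      rw [show (p₁ ≫ pullback.fst _ _) = p₂ ≫ pullback.fst _ _ from hpp]
      exact hE.trans _ _ _ Ω' _ _ _ h₂ (hE.symm _ _ Ω' _ _ h₃)
  -- agreement at all points of the given opens
  have hagree' : ∀ a b (r : ↥(pullback (v' π v a) (v' π v b))), pullback.fst (v' π v a) (v' π v b) r ∈ Et a →
      pullback.snd (v' π v a) (v' π v b) r ∈ Et b → proj2 π v a b r ∈ E a b := by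
    intro a b r hra hrb
    haveI : LocallyOfFiniteType (pullback.fst (v' π v a) (v' π v b) ≫ v' π v a ≫ s') := inferInstance
    haveI : JacobsonSpace ↥(pullback (v' π v a) (v' π v b)) :=
      LocallyOfFiniteType.jacobsonSpace (pullback.fst (v' π v a) (v' π v b) ≫ v' π v a ≫ s')
    exact subset_of_closedPoints
      (V := (pullback.fst (v' π v a) (v' π v b) ⁻¹' Et a) ∩ (pullback.snd (v' π v a) (v' π v b) ⁻¹' Et b))
      (D := proj2 π v a b ⁻¹' E a b)
      (((Et a).2.preimage (pullback.fst (v' π v a) (v' π v b)).continuous).inter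
        ((Et b).2.preimage (pullback.snd (v' π v a) (v' π v b)).continuous))
      ((E a b).2.preimage (proj2 π v a b).continuous)
      (fun x hx hx' => hagree a b x hx' hx.1 hx.2) ⟨hra, hrb⟩
  -- every point meets some piece
  have hwit : ∀ (a : α) (x : U' π v a), ∃ (b : α) (r : ↥(pullback (v' π v a) (v' π v b))),
      pullback.fst (v' π v a) (v' π v b) r = x ∧ pullback.snd (v' π v a) (v' π v b) r ∈ Et b := by
    intro a x
    obtain ⟨z, hz, hzc⟩ := nonempty_inter_closedPoints (Z := closure {v' π v a x})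
      ⟨_, subset_closure rfl⟩ isClosed_closure.isLocallyClosed
    obtain ⟨b, y, hy, hyz⟩ := hcov z hzc
    obtain ⟨y', hy', hy''⟩ := Flat.generalizingMap (v' π v b)
      (hyz ▸ specializes_iff_mem_closure.2 hz : v' π v a x ⤳ v' π v b y)
    obtain ⟨r, hr₁, hr₂⟩ := Scheme.Pullback.exists_preimage_pullback (f := v' π v a) (g := v' π v b) x y' hy''.symm
    exact ⟨b, r, hr₁, by rw [hr₂]; exact hy'.mem_open (Et b).2 hy⟩
  let Gd : ∀ a, Set (U' π v a) := fun a =>
    ⋃ b, pullback.fst (v' π v a) (v' π v b) ''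
      ((pullback.snd (v' π v a) (v' π v b) ⁻¹' Et b) ∩ (proj2 π v a b ⁻¹' E a b))
  have hGd : ∀ a (x : U' π v a), x ∈ Gd a → ∀ b (r : ↥(pullback (v' π v a) (v' π v b))),
      pullback.fst (v' π v a) (v' π v b) r = x → pullback.snd (v' π v a) (v' π v b) r ∈ Et b →
        proj2 π v a b r ∈ E a b := by
    intro a x hx c r₂ hr₂ hc
    obtain ⟨b, hb⟩ := Set.mem_iUnion.1 hx
    obtain ⟨r₁, ⟨hb₁, hb₂⟩, hr₁⟩ := hb
    obtain ⟨r₃, h31, h32, htr, -, -⟩ := htriple a b c r₁ r₂ (hr₁.trans hr₂.symm)
    exact htr hb₂ (hagree' b c r₃ (h31.symm ▸ hb₁) (h32.symm ▸ hc))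
  -- the fibre over the image of a point of a piece
  have hfib : ∀ (a : α) (x : U' π v a), pullback.fst (v a) π x ∈ pullback.fst (v a) π '' (Et a : Set _) →
      x ∈ Gd a := by
    rintro a x ⟨x₀, hx₀, hxq⟩
    by_contra hx
    let q := pullback.fst (v a) π x
    have hsq : IsPullback (pullback.fst (v a) π) (v' π v a ≫ s') (v a ≫ s)
        (Spec.map (CommRingCat.ofHom (j.comp (IsLocalRing.residue R)))) :=
      (IsPullback.of_hasPullback (v a) π).paste_vert h
    have hconn := isPreconnected_preimage j (v a ≫ s) (pullback.fst (v a) π) (v' π v a ≫ s') hsq q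
    haveI : ∀ b, UniversallyOpen (pullback.fst (v' π v a) (v' π v b)) := fun b => inferInstance
    have hGo : IsOpen (Gd a) := isOpen_iUnion fun b =>
      (pullback.fst (v' π v a) (v' π v b)).isOpenMap _
        (((Et b).2.preimage (pullback.snd (v' π v a) (v' π v b)).continuous).inter
          ((E a b).2.preimage (proj2 π v a b).continuous))
    -- the bad part of the fibre
    let Bd : Set (U' π v a) := ⋃ (b : α) (G : (pullback (v a) (v b)).Opens)
      (_ : ∀ w ∈ G, pullback.fst (v a) (v b) w = q → w ∉ E a b),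
      pullback.fst (v' π v a) (v' π v b) ''
        ((pullback.snd (v' π v a) (v' π v b) ⁻¹' Et b) ∩ (proj2 π v a b ⁻¹' G))
    have hBo : IsOpen Bd := isOpen_iUnion fun b => isOpen_iUnion fun G => isOpen_iUnion fun _ =>
      (pullback.fst (v' π v a) (v' π v b)).isOpenMap _
        (((Et b).2.preimage (pullback.snd (v' π v a) (v' π v b)).continuous).inter
          (G.2.preimage (proj2 π v a b).continuous))
    have hp : ∀ (b : α) (r : ↥(pullback (v' π v a) (v' π v b))),
        pullback.fst (v a) (v b) (proj2 π v a b r) = pullback.fst (v a) π (pullback.fst (v' π v a) (v' π v b) r) := by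
      intro b r
      rw [← Scheme.Hom.comp_apply, ← Scheme.Hom.comp_apply, pullback.lift_fst]
    have hsub : pullback.fst (v a) π ⁻¹' {q} ⊆ Gd a ∪ Bd := by
      intro y hy
      by_cases hyG : y ∈ Gd a
      · exact .inl hyG
      · obtain ⟨b, r, hr, hrb⟩ := hwit a y
        have hnE : proj2 π v a b r ∉ E a b := fun hrE =>
          hyG (Set.mem_iUnion.2 ⟨b, r, ⟨hrb, hrE⟩, hr⟩)
        obtain ⟨G, hGo', hG⟩ := isDiscrete_iff_forall_exists_isOpen.1
          ((pullback.fst (v a) (v b)).isDiscrete_preimage_singleton q) (proj2 π v a b r)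
          (by rw [Set.mem_preimage, hp, hr]; exact hy)
        refine .inr (Set.mem_iUnion.2 ⟨b, Set.mem_iUnion.2 ⟨⟨G, hGo'⟩, Set.mem_iUnion.2 ⟨fun w hw hwq => ?_,
          r, ⟨hrb, (hG.ge (Set.mem_singleton _)).1⟩, hr⟩⟩⟩)
        rw [show w = proj2 π v a b r from hG.le ⟨hw, hwq⟩]
        exact hnE
    have hx₀G : x₀ ∈ Gd a := by
      let Δ : U' π v a ⟶ pullback (v' π v a) (v' π v a) := pullback.lift (𝟙 _) (𝟙 _) rfl
      have hΔ₁ : pullback.fst (v' π v a) (v' π v a) (Δ x₀) = x₀ := by
        rw [← Scheme.Hom.comp_apply, pullback.lift_fst]; rfl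
      have hΔ₂ : pullback.snd (v' π v a) (v' π v a) (Δ x₀) = x₀ := by
        rw [← Scheme.Hom.comp_apply, pullback.lift_snd]; rfl
      have hm₁ : pullback.fst (v' π v a) (v' π v a) (Δ x₀) ∈ Et a := hΔ₁.symm ▸ hx₀
      have hm₂ : pullback.snd (v' π v a) (v' π v a) (Δ x₀) ∈ Et a := hΔ₂.symm ▸ hx₀
      exact Set.mem_iUnion.2 ⟨a, Δ x₀, ⟨hm₂, hagree' a a _ hm₁ hm₂⟩, hΔ₁⟩
    obtain ⟨y, hy, hyG, hyB⟩ := hconn (Gd a) Bd hGo hBo hsub ⟨x₀, hxq, hx₀G⟩
      ⟨x, rfl, (hsub rfl).resolve_left hx⟩
    simp only [Bd, Set.mem_iUnion] at hyB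
    obtain ⟨b, G, hG, r, ⟨hrb, hrG⟩, hr⟩ := hyB
    exact hG _ hrG ((hp b r).trans ((congrArg (pullback.fst (v a) π) hr).trans hy)) (hGd a y hyG b r hr hrb)
  refine ⟨fun a b r hra hrb => hGd a _ (hfib a _ hra) b r rfl hrb, fun a b w hwc hwa hwb => ?_⟩
  obtain ⟨z, hz, -⟩ := exists_preimage_of_fibre j s π s' h ((pullback.fst (v a) (v b) ≫ v a) w) hwc
  obtain ⟨t, ht, -⟩ := Scheme.Pullback.exists_preimage_pullback
    (f := pullback.fst (v a) (v b) ≫ v a) (g := π) w z hz.symm
  let T := pullback (pullback.fst (v a) (v b) ≫ v a) π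
  let ma : T ⟶ U' π v a := pullback.lift (pullback.fst _ _ ≫ pullback.fst (v a) (v b)) (pullback.snd _ _) (by
    rw [Category.assoc, pullback.condition])
  let mb : T ⟶ U' π v b := pullback.lift (pullback.fst _ _ ≫ pullback.snd (v a) (v b)) (pullback.snd _ _) (by
    rw [Category.assoc, ← pullback.condition (f := v a) (g := v b), pullback.condition])
  let m : T ⟶ pullback (v' π v a) (v' π v b) := pullback.lift ma mb (by
    rw [pullback.lift_snd, pullback.lift_snd])
  have hm : m ≫ proj2 π v a b = pullback.fst _ _ := by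
    refine pullback.hom_ext ?_ ?_
    · rw [Category.assoc, pullback.lift_fst, pullback.lift_fst_assoc, pullback.lift_fst]
    · rw [Category.assoc, pullback.lift_snd, pullback.lift_snd_assoc, pullback.lift_fst]
  have hmw : proj2 π v a b (m t) = w := by rw [← Scheme.Hom.comp_apply, hm, ht]
  have hx : pullback.fst (v a) π (pullback.fst (v' π v a) (v' π v b) (m t)) = pullback.fst (v a) (v b) w := by
    rw [← Scheme.Hom.comp_apply, ← hmw, ← Scheme.Hom.comp_apply (proj2 π v a b), pullback.lift_fst]
  have hy : pullback.fst (v b) π (pullback.snd (v' π v a) (v' π v b) (m t)) = pullback.snd (v a) (v b) w := by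
    rw [← Scheme.Hom.comp_apply, ← hmw, ← Scheme.Hom.comp_apply (proj2 π v a b), pullback.lift_snd]
  have hxa := hfib a _ (hx.symm ▸ hwa)
  have hyb := hfib b _ (hy.symm ▸ hwb)
  obtain ⟨c, r', hr', hc⟩ := hwit a (pullback.fst (v' π v a) (v' π v b) (m t))
  obtain ⟨r₃, h31, h32, -, -, htr⟩ := htriple a b c (m t) r' hr'.symm
  rw [← hmw]
  exact htr (hGd a _ hxa c r' hr' hc) (hGd b _ hyb c r₃ h31 (h32.symm ▸ hc))

end Groth.Agent.H0PBC
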