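import Groth.Agent.H0PBC.Pair
import Mathlib.AlgebraicGeometry.Morphisms.Proper

/-!
# Schemes proper over henselian pairs have connected closed parts
-/

set_option autoImplicit false
set_option linter.style.haveILetI false
set_option backward.isDefEq.respectTransparency false
set_option backward.isDefEq.respectTransparency.types false
universe u

open CategoryTheory CategoryTheory.Limits AlgebraicGeometry TopologicalSpace

namespace Groth.Agent.H0PBC

theorem hasConnectedParts_of_proper {R : Type u} [CommRing R] (I : Ideal R) [HenselianRing R I] {X : Scheme.{u}}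
    (f : X ⟶ Spec (CommRingCat.of R)) [IsProper f] :
    HasConnectedParts (f ⁻¹' PrimeSpectrum.zeroLocus (I : Set R)) := by
  intro T g hg η
  haveI : IsProper (g ≫ f) := inferInstance
  exact isConnected_closure_inter I (g ≫ f) η

theorem hasConnectedParts_fst {R : Type u} [CommRing R] (I : Ideal R) [HenselianRing R I] {X : Scheme.{u}}
    (f : X ⟶ Spec (CommRingCat.of R)) [IsProper f] :
    HasConnectedParts (Set.range (pullback.fst f (Spec.map (CommRingCat.ofHom (Ideal.Quotient.mk I))))) := by
  rw [HensCouple7.range_fst_mk I f]
  exact hasConnectedParts_of_proper I f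

theorem hasConnectedParts_mk (R : Type u) [CommRing R] (I : Ideal R) [HenselianRing R I] :
    HasConnectedParts (Set.range (Spec.map (CommRingCat.ofHom (Ideal.Quotient.mk I)))) := by
  rw [HensCouple7.range_specMap_mk R I]
  exact hasConnectedParts_of_proper I (𝟙 (Spec (CommRingCat.of R)))

end Groth.Agent.H0PBC
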