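import Groth.Agent.H0PBC.Core
import Groth.Agent.H0PBC.FieldFibre
import Groth.Agent.H0PBC.Proper

/-!
# From data on a geometric fibre to compatible data over a strictly henselian base
-/

set_option autoImplicit false
set_option linter.style.haveILetI false
set_option linter.unusedSectionVars false
set_option backward.isDefEq.respectTransparency false
set_option backward.isDefEq.respectTransparency.types false
universe u

open CategoryTheory CategoryTheory.Limits AlgebraicGeometry TopologicalSpace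

namespace Groth.Agent.H0PBC

/-- restriction of a relation to open pieces -/
theorem isEquivRel_opens {P : Scheme.{u}} {α ι : Type u} {U : α → Scheme.{u}} {u : ∀ a, U a ⟶ P}
    {E : ∀ a b, (pullback (u a) (u b)).Opens} (hE : IsEquivRel u E) (a : ι → α) (D : ∀ k, (U (a k)).Opens) :
    IsEquivRel (fun k => (D k).ι ≫ u (a k)) (fun k l => pullback.map ((D k).ι ≫ u (a k)) ((D l).ι ≫ u (a l))
      (u (a k)) (u (a l)) (D k).ι (D l).ι (𝟙 P) (Category.comp_id _) (Category.comp_id _) ⁻¹ᵁ E (a k) (a l)) := by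
  have key : ∀ {k l : ι} {Ω : Type u} [Field Ω] (x : Spec (CommRingCat.of Ω) ⟶ D k)
      (y : Spec (CommRingCat.of Ω) ⟶ D l),
      Rel (fun k => (D k).ι ≫ u (a k)) (fun k l => pullback.map ((D k).ι ≫ u (a k)) ((D l).ι ≫ u (a l))
        (u (a k)) (u (a l)) (D k).ι (D l).ι (𝟙 P) (Category.comp_id _) (Category.comp_id _) ⁻¹ᵁ E (a k) (a l))
        k l x y ↔ Rel u E (a k) (a l) (x ≫ (D k).ι) (y ≫ (D l).ι) := by
    intro k l Ω _ x y
    have e : ∀ (h : x ≫ (D k).ι ≫ u (a k) = y ≫ (D l).ι ≫ u (a l)) (h' : (x ≫ (D k).ι) ≫ u (a k) = (y ≫ (D l).ι) ≫ u (a l)),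
        pullback.lift x y h ≫ pullback.map ((D k).ι ≫ u (a k)) ((D l).ι ≫ u (a l))
          (u (a k)) (u (a l)) (D k).ι (D l).ι (𝟙 P) (Category.comp_id _) (Category.comp_id _) =
            pullback.lift (x ≫ (D k).ι) (y ≫ (D l).ι) h' := fun h h' => by
      refine pullback.hom_ext ?_ ?_ <;> simp
    constructor
    · rintro ⟨h, hm⟩
      have h' : (x ≫ (D k).ι) ≫ u (a k) = (y ≫ (D l).ι) ≫ u (a l) := by
        simpa only [Category.assoc] using h
      refine ⟨h', ?_⟩
      rw [← e h h', Scheme.Hom.comp_apply]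
      exact hm
    · rintro ⟨h', hm⟩
      have h : x ≫ (D k).ι ≫ u (a k) = y ≫ (D l).ι ≫ u (a l) := by
        simpa only [Category.assoc] using h'
      refine ⟨h, ?_⟩
      rw [← e h h', Scheme.Hom.comp_apply] at hm
      exact hm
  exact ⟨fun k Ω _ _ x => (key x x).2 (hE.refl _ Ω _),
    fun k l Ω _ _ x y h => (key y x).2 (hE.symm _ _ Ω _ _ ((key x y).1 h)),
    fun k l m Ω _ _ x y z h h' => (key x z).2 (hE.trans _ _ _ Ω _ _ _ ((key x y).1 h) ((key y z).1 h'))⟩

variable {R Ω : Type u} [CommRing R] [HenselianLocalRing R] [IsSepClosed (IsLocalRing.ResidueField R)] [Field Ω]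

/-- data on an extension of the closed fibre of a proper scheme over a strictly henselian ring -/
theorem exists_pieces (j : IsLocalRing.ResidueField R →+* Ω) {P P' : Scheme.{u}}
    (p : P ⟶ Spec (CommRingCat.of R)) [IsProper p] (π : P' ⟶ P) (p' : P' ⟶ Spec (CommRingCat.of Ω))
    (h : IsPullback π p' p (Spec.map (CommRingCat.ofHom (j.comp (IsLocalRing.residue R)))))
    {α : Type u} {U : α → Scheme.{u}} (u : ∀ a, U a ⟶ P) [∀ a, IsAffine (U a)] [∀ a, Etale (u a)]
    (E : ∀ a b, (pullback (u a) (u b)).Opens) (hE : IsEquivRel u E) (Et : ∀ a, (U' π u a).Opens)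
    (hcov : ∀ z : P', IsClosed {z} → ∃ (a : α) (x : U' π u a), x ∈ Et a ∧ v' π u a x = z)
    (hagree : ∀ a b (r : ↥(pullback (v' π u a) (v' π u b))), IsClosed {r} →
      pullback.fst (v' π u a) (v' π u b) r ∈ Et a → pullback.snd (v' π u a) (v' π u b) r ∈ Et b →
        proj2 π u a b r ∈ E a b) :
    ∃ (ι : Type u) (_ : Finite ι) (a : ι → α) (b : ∀ k, Γ(U (a k), ⊤)),
      (∀ z : P, p z = IsLocalRing.closedPoint R → ∃ k, ∃ q ∈ (U (a k)).basicOpen (b k), u (a k) q = z) ∧
      (∀ k l (w : ↥(pullback (u (a k)) (u (a l)))), pullback.fst (u (a k)) (u (a l)) w ∈ (U (a k)).basicOpen (b k) →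
        pullback.snd (u (a k)) (u (a l)) w ∈ (U (a l)).basicOpen (b l) → w ∈ E (a k) (a l)) ∧
      ∀ k c (r : ↥(pullback (v' π u (a k)) (v' π u c))),
        pullback.fst (u (a k)) π (pullback.fst (v' π u (a k)) (v' π u c) r) ∈ (U (a k)).basicOpen (b k) →
        pullback.snd (v' π u (a k)) (v' π u c) r ∈ Et c → proj2 π u (a k) c r ∈ E (a k) c := by
  classical
  haveI : CompactSpace P := QuasiCompact.compactSpace_of_compactSpace p
  haveI : QuasiSeparatedSpace P := quasiSeparatedSpace_of_quasiSeparated p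
  haveI : ∀ a, IsSeparated (u a) := fun a => isSeparated_of_isAffine_source _
  haveI : ∀ a, QuasiCompact (u a) := fun a => quasiCompact_of_isAffine_source _
  obtain ⟨hdesc₁, hdesc₂⟩ := agree_of_descent (s := p) (π := π) (s' := p') j h (v := u) (E := E) Et hE hcov hagree
  let F : Set P := p ⁻¹' {IsLocalRing.closedPoint R}
  have hF : IsClosed F := (IsLocalRing.isClosed_singleton_closedPoint R).preimage p.continuous
  let i := Spec.map (CommRingCat.ofHom (IsLocalRing.residue R))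
  haveI : IsClosedImmersion i := IsClosedImmersion.spec_of_surjective _ IsLocalRing.residue_surjective
  let b₀ := Spec.map (CommRingCat.ofHom j)
  have hb₀ : b₀ ≫ i = Spec.map (CommRingCat.ofHom (j.comp (IsLocalRing.residue R))) := (Spec.map_comp _ _).symm
  -- the images are open in the closed fibres
  have hG : ∀ a, ∃ O : Set (U a), IsOpen O ∧ pullback.fst (u a) π '' (Et a : Set _) ⊆ O ∧
      ∀ q ∈ O, p (u a q) = IsLocalRing.closedPoint R → q ∈ pullback.fst (u a) π '' (Et a : Set _) := by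
    intro a
    let ia := pullback.fst (u a ≫ p) i
    let g : U' π u a ⟶ pullback (u a ≫ p) i := pullback.lift (pullback.fst (u a) π) (v' π u a ≫ p' ≫ b₀) (by
      rw [Category.assoc, Category.assoc, hb₀, ← h.w]
      exact pullback.condition_assoc _)
    have hg : IsPullback g (v' π u a ≫ p') (pullback.snd (u a ≫ p) i) b₀ := by
      refine IsPullback.of_right ?_ (pullback.lift_snd _ _ _ |>.trans (Category.assoc _ _ _).symm)
        (IsPullback.of_hasPullback (u a ≫ p) i).flip.flip |> fun hh => hh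
      rw [pullback.lift_fst, hb₀]
      exact (IsPullback.of_hasPullback (u a) π).paste_vert h
    haveI : UniversallyOpen b₀ := by
      haveI : IsIntegral (Spec (CommRingCat.of (IsLocalRing.ResidueField R))) := inferInstance
      infer_instance
    haveI : UniversallyOpen g := MorphismProperty.of_isPullback hg.flip inferInstance
    obtain ⟨O, hO, hO'⟩ := ia.isClosedEmbedding.isInducing.isOpen_iff.1 (g.isOpenMap _ (Et a).2)
    refine ⟨O, hO, ?_, fun q hq hqp => ?_⟩
    · rintro _ ⟨x, hx, rfl⟩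
      have h1 : g x ∈ ia ⁻¹' O := hO'.ge ⟨x, hx, rfl⟩
      rwa [Set.mem_preimage, ← Scheme.Hom.comp_apply, pullback.lift_fst] at h1
    · obtain ⟨y, hy, -⟩ := Scheme.Pullback.exists_preimage_pullback (f := u a ≫ p) (g := i) q
        (IsLocalRing.closedPoint (IsLocalRing.ResidueField R)) (by
          rw [Scheme.Hom.comp_apply, hqp]; exact (IsLocalRing.PrimeSpectrum.comap_residue R _).symm)
      obtain ⟨x, hx, hxy⟩ := hO'.le (show ia y ∈ O from hy.symm ▸ hq)
      exact ⟨x, hx, by rw [← hy, ← hxy, ← Scheme.Hom.comp_apply g, pullback.lift_fst]⟩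
  choose O hOo hGO hOG using hG
  -- affine pieces covering the closed fibre
  have hpiece : ∀ z : F, ∃ (a : α) (D : (U a).Opens) (q : U a),
      IsAffineOpen D ∧ q ∈ D ∧ u a q = z.1 ∧ (D : Set (U a)) ⊆ O a := by
    rintro ⟨z, hz⟩
    obtain ⟨z', hz', -⟩ := exists_preimage_of_fibre j p π p' h z hz
    haveI : LocallyOfFiniteType p' := MorphismProperty.of_isPullback h inferInstance
    haveI : JacobsonSpace P' := LocallyOfFiniteType.jacobsonSpace p'
    obtain ⟨z'', hz'', hzc⟩ := nonempty_inter_closedPoints (Z := closure {z'})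
      ⟨_, subset_closure rfl⟩ isClosed_closure.isLocallyClosed
    obtain ⟨a, y, hy, hyz⟩ := hcov z'' hzc
    obtain ⟨y', hy', hy''⟩ := Flat.generalizingMap (v' π u a)
      (hyz ▸ specializes_iff_mem_closure.2 hz'' : z' ⤳ v' π u a y)
    have hq : u a (pullback.fst (u a) π y') = z := by
      rw [← Scheme.Hom.comp_apply, pullback.condition, Scheme.Hom.comp_apply]
      exact (congrArg π hy'').trans hz'
    obtain ⟨D, hD, hqD, hDO⟩ := exists_isAffineOpen_mem_and_subset (U := (⟨O a, hOo a⟩ : (U a).Opens))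
      (x := pullback.fst (u a) π y') (hGO a ⟨y', hy'.mem_open (Et a).2 hy, rfl⟩)
    exact ⟨a, D, _, hD, hqD, hq, hDO⟩
  choose a₁ D₁ q₁ hD₁ hqD₁ hq₁ hDO₁ using hpiece
  obtain ⟨t, ht⟩ := hF.isCompact.elim_finite_subcover (fun z : F => u (a₁ z) '' (D₁ z : Set _))
    (fun z => (u (a₁ z)).isOpenMap _ (D₁ z).2) (fun z hz => Set.mem_iUnion.2 ⟨⟨z, hz⟩, q₁ _, hqD₁ _, hq₁ _⟩)
  let κ₁ := {z // z ∈ t}
  let a : κ₁ → α := fun k => a₁ k.1
  let D : ∀ k : κ₁, (U (a k)).Opens := fun k => D₁ k.1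
  let uD : ∀ k : κ₁, (D k).toScheme ⟶ P := fun k => (D k).ι ≫ u (a k)
  haveI : ∀ k : κ₁, IsAffine (D k).toScheme := fun k => hD₁ _
  haveI : ∀ k, Etale (uD k) := fun k => inferInstanceAs (Etale ((D k).ι ≫ u (a k)))
  haveI : ∀ k, IsSeparated (uD k) := fun k => isSeparated_of_isAffine_source _
  haveI : ∀ k, QuasiCompact (uD k) := fun k => quasiCompact_of_isAffine_source _
  let ED : ∀ k l, (pullback (uD k) (uD l)).Opens := fun k l =>
    pullback.map (uD k) (uD l) (u (a k)) (u (a l)) (D k).ι (D l).ι (𝟙 P) (Category.comp_id _) (Category.comp_id _) ⁻¹ᵁ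
      E (a k) (a l)
  have hcovD : ∀ z ∈ F, ∃ (k : κ₁) (q : (D k).toScheme), uD k q = z := fun z hz => by
    obtain ⟨k, hk, q, hq, hqz⟩ := Set.mem_iUnion₂.1 (ht hz)
    exact ⟨⟨k, hk⟩, ⟨q, hq⟩, hqz⟩
  have hZE : ∀ k l (w : ↥(pullback (uD k) (uD l))), uD k (pullback.fst (uD k) (uD l) w) ∈ F → w ∈ ED k l := by
    intro k l w hw
    let m := pullback.map (uD k) (uD l) (u (a k)) (u (a l)) (D k).ι (D l).ι (𝟙 P) (Category.comp_id _) (Category.comp_id _)
    have h1 : pullback.fst (u (a k)) (u (a l)) (m w) = (D k).ι (pullback.fst (uD k) (uD l) w) := by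
      rw [← Scheme.Hom.comp_apply, pullback.lift_fst, Scheme.Hom.comp_apply]
    have h2 : pullback.snd (u (a k)) (u (a l)) (m w) = (D l).ι (pullback.snd (uD k) (uD l) w) := by
      rw [← Scheme.Hom.comp_apply, pullback.lift_snd, Scheme.Hom.comp_apply]
    have hF₁ : p (u (a k) (pullback.fst (u (a k)) (u (a l)) (m w))) = IsLocalRing.closedPoint R := by
      rw [h1, ← Scheme.Hom.comp_apply]; exact hw
    have hF₂ : p (u (a l) (pullback.snd (u (a k)) (u (a l)) (m w))) = IsLocalRing.closedPoint R := by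
      rw [← Scheme.Hom.comp_apply (pullback.snd (u (a k)) (u (a l))), ← pullback.condition, Scheme.Hom.comp_apply]
      exact hF₁
    refine hdesc₂ _ _ (m w) hF₁ (hOG _ _ ?_ hF₁) (hOG _ _ ?_ hF₂)
    · rw [h1]; exact hDO₁ _ (pullback.fst (uD k) (uD l) w).2
    · rw [h2]; exact hDO₁ _ (pullback.snd (uD k) (uD l) w).2
  haveI : HenselianRing R (IsLocalRing.maximalIdeal R) := (Hensel.henselianRing_maximalIdeal_iff R).mpr inferInstance
  have hconn : HasConnectedParts F := by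
    have e : (PrimeSpectrum.zeroLocus (IsLocalRing.maximalIdeal R : Set R)) = {IsLocalRing.closedPoint R} :=
      PrimeSpectrum.zeroLocus_eq_singleton (IsLocalRing.maximalIdeal R)
    have := hasConnectedParts_of_proper (IsLocalRing.maximalIdeal R) p
    rwa [e] at this
  obtain ⟨O', hO'F, -, hO'E⟩ := exists_opens (u := uD) (E := ED) (isEquivRel_opens hE a D) hF hconn hcovD hZE
  -- basic opens inside
  have hbasic : ∀ z : F, ∃ (k : κ₁) (b : Γ(U (a k), ⊤)) (q : U (a k)), q ∈ (U (a k)).basicOpen b ∧ u (a k) q = z.1 ∧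
      ((U (a k)).basicOpen b : Set (U (a k))) ⊆ (D k).ι '' (O' k : Set _) := by
    rintro ⟨z, hz⟩
    obtain ⟨k, q, hq⟩ := hcovD z hz
    let V : (U (a k)).Opens := ⟨_, (D k).ι.isOpenMap _ (O' k).2⟩
    obtain ⟨b, hbV, hb⟩ := (isAffineOpen_top (U (a k))).exists_basicOpen_le (V := V)
      ⟨(D k).ι q, q, hO'F k q (show uD k q ∈ F from hq.symm ▸ hz), rfl⟩ trivial
    exact ⟨k, b, (D k).ι q, hb, hq, hbV⟩
  choose k₂ b₂ q₂ hqb₂ hq₂ hb₂ using hbasic
  obtain ⟨t₂, ht₂⟩ := hF.isCompact.elim_finite_subcover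
    (fun z : F => u (a (k₂ z)) '' ((U (a (k₂ z))).basicOpen (b₂ z) : Set _))
    (fun z => (u (a (k₂ z))).isOpenMap _ ((U (a (k₂ z))).basicOpen (b₂ z)).2)
    (fun z hz => Set.mem_iUnion.2 ⟨⟨z, hz⟩, q₂ _, hqb₂ _, hq₂ _⟩)
  refine ⟨{z // z ∈ t₂}, inferInstance, fun k => a (k₂ k.1), fun k => b₂ k.1, fun z hz => ?_, fun k l w hwk hwl => ?_,
    fun k c r hr hc => ?_⟩
  · obtain ⟨k, hk, q, hq, hqz⟩ := Set.mem_iUnion₂.1 (ht₂ (show z ∈ F from hz))
    exact ⟨⟨k, hk⟩, q, hq, hqz⟩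
  · obtain ⟨y₁, hy₁, hy₁'⟩ := hb₂ _ hwk
    obtain ⟨y₂, hy₂, hy₂'⟩ := hb₂ _ hwl
    obtain ⟨Ω', _, _, τ, hτ⟩ := exists_geom_point w
    let x₁ := IsOpenImmersion.lift (D (k₂ k.1)).ι (τ ≫ pullback.fst (u (a (k₂ k.1))) (u (a (k₂ l.1)))) (by
      rintro _ ⟨y, rfl⟩
      rw [Subsingleton.elim y default, Scheme.Hom.comp_apply, hτ, ← hy₁']
      exact ⟨_, rfl⟩)
    let x₂ := IsOpenImmersion.lift (D (k₂ l.1)).ι (τ ≫ pullback.snd (u (a (k₂ k.1))) (u (a (k₂ l.1)))) (by
      rintro _ ⟨y, rfl⟩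
      rw [Subsingleton.elim y default, Scheme.Hom.comp_apply, hτ, ← hy₂']
      exact ⟨_, rfl⟩)
    let σ : Spec (CommRingCat.of Ω') ⟶ pullback (uD (k₂ k.1)) (uD (k₂ l.1)) := pullback.lift x₁ x₂ (by
      rw [IsOpenImmersion.lift_fac_assoc, IsOpenImmersion.lift_fac_assoc, Category.assoc, Category.assoc,
        pullback.condition])
    have hσ₁ : pullback.fst (uD (k₂ k.1)) (uD (k₂ l.1)) (σ default) = y₁ := by
      refine (D (k₂ k.1)).ι.isOpenEmbedding.injective ?_
      rw [← Scheme.Hom.comp_apply σ, pullback.lift_fst, ← Scheme.Hom.comp_apply x₁, IsOpenImmersion.lift_fac,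
        Scheme.Hom.comp_apply, hτ, hy₁']
    have hσ₂ : pullback.snd (uD (k₂ k.1)) (uD (k₂ l.1)) (σ default) = y₂ := by
      refine (D (k₂ l.1)).ι.isOpenEmbedding.injective ?_
      rw [← Scheme.Hom.comp_apply σ, pullback.lift_snd, ← Scheme.Hom.comp_apply x₂, IsOpenImmersion.lift_fac,
        Scheme.Hom.comp_apply, hτ, hy₂']
    have := hO'E _ _ (σ default) (hσ₁.symm ▸ hy₁) (hσ₂.symm ▸ hy₂)
    have e : σ ≫ pullback.map (uD (k₂ k.1)) (uD (k₂ l.1)) (u (a (k₂ k.1))) (u (a (k₂ l.1))) (D _).ι (D _).ι (𝟙 P)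
        (Category.comp_id _) (Category.comp_id _) = τ :=
      pullback.hom_ext (by rw [Category.assoc, pullback.lift_fst, pullback.lift_fst_assoc, IsOpenImmersion.lift_fac])
        (by rw [Category.assoc, pullback.lift_snd, pullback.lift_snd_assoc, IsOpenImmersion.lift_fac])
    rw [← hτ, ← e, Scheme.Hom.comp_apply]
    exact this
  · obtain ⟨y, -, hy⟩ := hb₂ _ hr
    refine hdesc₁ _ c r (hOG _ _ (hy ▸ hDO₁ _ y.2) ?_) hc
    rw [← Scheme.Hom.comp_apply (pullback.fst _ π) (u (a (k₂ k.1))), pullback.condition, Scheme.Hom.comp_apply]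
    exact apply_of_fibre j p π p' h _

end Groth.Agent.H0PBC
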