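import Groth.Agent.H0PBC.Germ
import Groth.Agent.EtFound.IntegralStalk
import Mathlib.AlgebraicGeometry.AlgClosed.Basic

/-!
# Stalks of direct images along proper morphisms embed in the products of stalks above
-/

set_option autoImplicit false
set_option linter.style.haveILetI false
set_option linter.unusedSectionVars false
set_option backward.isDefEq.respectTransparency.types false
universe u

open CategoryTheory CategoryTheory.Limits AlgebraicGeometry TopologicalSpace Opposite

namespace Groth.Agent.H0PBC

open EtFound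

variable {X Y : Scheme.{u}} (f : X ⟶ Y) {Ω : Type u} [Field Ω] [IsAlgClosed Ω]
  {η : Spec (CommRingCat.of Ω) ⟶ Y}

/-- closed points of a geometric fibre are rational -/
theorem exists_fibre_point [LocallyOfFiniteType f] (z : ↥(pullback f η)) (hz : IsClosed {z}) :
    ∃ (ξ : Spec (CommRingCat.of Ω) ⟶ X) (hξ : ξ ≫ f = η), fibrePt f hξ = z := by
  let l := pointOfClosedPoint (pullback.snd f η) z hz
  have hl : l ≫ pullback.snd f η = 𝟙 _ := pointOfClosedPoint_comp _ _ _
  have hξ : (l ≫ pullback.fst f η) ≫ f = η := by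
    rw [Category.assoc, pullback.condition, ← Category.assoc, hl, Category.id_comp]
  refine ⟨_, hξ, ?_⟩
  have e : pullback.lift (l ≫ pullback.fst f η) (𝟙 _) (hξ.trans (Category.id_comp η).symm) = l :=
    pullback.hom_ext (pullback.lift_fst _ _ _) ((pullback.lift_snd _ _ _).trans hl.symm)
  exact (congrArg (fun k : Spec (CommRingCat.of Ω) ⟶ pullback f η =>
    k.base (default : Spec (CommRingCat.of Ω))) e).trans (pointOfClosedPoint_apply _ _ _ _)

/-- an open around the fibre over a geometric point contains the fibre of a neighbourhood -/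
theorem exists_shrink_closed [UniversallyClosed f] {V : Y.Etale}
    (v : (Scheme.pointSmallEtale η).fiber.obj V) (O : ((EtCoh.bc f).obj V).left.Opens)
    (hO : ∀ w : ((EtCoh.bc f).obj V).left, (pullback.fst V.hom f).base w =
      (v.left : Spec (CommRingCat.of Ω) ⟶ V.left).base (default : Spec (CommRingCat.of Ω)) → w ∈ O) :
    ∃ (W : Y.Etale) (b : W ⟶ V) (w : (Scheme.pointSmallEtale η).fiber.obj W),
      (Scheme.pointSmallEtale η).fiber.map b w = v ∧ ∀ x, ((EtCoh.bc f).map b).left.base x ∈ O := by
  let G : V.left.Opens :=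
    ⟨((pullback.fst V.hom f).base '' (Oᶜ : Set ((EtCoh.bc f).obj V).left))ᶜ,
      ((pullback.fst V.hom f).isClosedMap _ O.2.isClosed_compl).isOpen_compl⟩
  have hG : (v.left : Spec (CommRingCat.of Ω) ⟶ V.left).base (default : Spec (CommRingCat.of Ω)) ∈ G := by
    rintro ⟨w, hw, e⟩
    exact hw (hO w e)
  obtain ⟨w, hw, -⟩ := exists_lift_point (restrictEtaleHom V G) v ⟨_, hG⟩ rfl
  refine ⟨_, restrictEtaleHom V G, w, hw, fun x => ?_⟩
  by_contra hx
  refine ((pullback.fst (restrictEtale V G).hom f).base x).2 ⟨_, hx, ?_⟩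
  refine (Scheme.Hom.comp_apply _ (pullback.fst V.hom f) x).symm.trans ?_
  exact (congrArg (fun k : _ ⟶ V.left => k.base x)
    (EtCoh.isPullback_bc_map f (restrictEtaleHom V G)).w).trans (Scheme.Hom.comp_apply _ _ x)

variable {A : Type (u + 2)} [Category.{u + 1} A] [HasColimitsOfSize.{u, u} A] [HasProducts.{u} A]
  [((EtCoh.bc f).sheafPushforwardContinuous A Y.smallEtaleTopology X.smallEtaleTopology).IsRightAdjoint]
  {FA : A → A → Type*} {CA : A → Type (u + 1)}
  [∀ M N, FunLike (FA M N) (CA M) (CA N)] [ConcreteCategory.{u + 1} A FA]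
  [PreservesFilteredColimitsOfSize.{u, u} (forget A)] [X.smallEtaleTopology.HasSheafCompose (forget A)]

/-- the stalk of a direct image along a proper morphism embeds in the product of the stalks above -/
theorem pushStalkAt_injective_proper [UniversallyClosed f] [LocallyOfFiniteType f]
    (G : Sheaf X.smallEtaleTopology A) :
    Function.Injective (fun p (ξ : {ξ : Spec (CommRingCat.of Ω) ⟶ X // ξ ≫ f = η}) =>
      (pushStalkAt f ξ.2).app G p) := by
  intro p q hpq
  obtain ⟨V, v, a, b, rfl, rfl⟩ := (Scheme.pointSmallEtale η).toPresheafFiber_jointly_surjective₂ p q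
  let R := eqLocus G (W := (EtCoh.bc f).obj V) a b
  have hR : ∀ w : ((EtCoh.bc f).obj V).left, (pullback.fst V.hom f).base w =
      (v.left : Spec (CommRingCat.of Ω) ⟶ V.left).base (default : Spec (CommRingCat.of Ω)) → w ∈ R := by
    intro w hw
    haveI : JacobsonSpace ↥(pullback f η) := LocallyOfFiniteType.jacobsonSpace (pullback.snd f η)
    have hall : ∀ z : ↥(pullback f η), (fibreTo f v).base z ∈ R := by
      intro z
      by_contra hz
      obtain ⟨z', hz'R, hz'⟩ := nonempty_inter_closedPoints (Z := ((fibreTo f v).base ⁻¹' (R : Set ↥((EtCoh.bc f).obj V).left))ᶜ)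
        ⟨z, hz⟩
        (R.2.preimage (fibreTo f v).continuous).isClosed_compl.isLocallyClosed
      obtain ⟨ξ, hξ, rfl⟩ := exists_fibre_point f z' hz'
      refine hz'R (mem_opens_congr (fibreTo_pt f hξ v) ?_)
      exact (mem_eqLocus_iff G a b ξ _ (CategoryTheory.Over.w (liftPt f hξ v))).2
        ((pushStalkAt_germ_apply f hξ G v a).symm.trans
          ((congrFun hpq ⟨ξ, hξ⟩).trans (pushStalkAt_germ_apply f hξ G v b)))
    let vl : Spec (CommRingCat.of Ω) ⟶ V.left := v.left
    have hvl : vl ≫ V.hom = η := CategoryTheory.Over.w v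
    obtain ⟨t, ht, -⟩ := Scheme.Pullback.exists_preimage_pullback (f := pullback.fst V.hom f) (g := vl) w default hw
    let m : pullback (pullback.fst V.hom f) vl ⟶ pullback f η :=
      pullback.lift (pullback.fst _ _ ≫ pullback.snd V.hom f) (pullback.snd _ _) (by
        rw [Category.assoc, ← pullback.condition, ← hvl, pullback.condition_assoc])
    have e : m ≫ fibreTo f v = pullback.fst _ _ := by
      refine pullback.hom_ext ?_ ?_
      · refine (Category.assoc _ _ _).trans ((congrArg (m ≫ ·) (pullback.lift_fst _ _ _)).trans ?_)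
        refine (Category.assoc _ _ _).symm.trans ((congrArg (· ≫ vl) (pullback.lift_snd _ _ _)).trans ?_)
        exact pullback.condition.symm
      · refine (Category.assoc _ _ _).trans ((congrArg (m ≫ ·) (pullback.lift_snd _ _ _)).trans ?_)
        exact pullback.lift_fst _ _ _
    have h := hall (m t)
    exact mem_opens_congr (((Scheme.Hom.comp_apply _ _ _).symm.trans
      ((congrArg (fun k : _ ⟶ ((EtCoh.bc f).obj V).left => k.base t) e).trans ht)).symm) h
  obtain ⟨W, d, w', hw', hd⟩ := exists_shrink_closed f v R hR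
  refine ((Scheme.pointSmallEtale η).toPresheafFiber_eq_iff' _ _ _ _).2 ⟨W, d, w', hw', ?_⟩
  refine section_ext G (G.obj.map ((EtCoh.bc f).map d).op a) (G.obj.map ((EtCoh.bc f).map d).op b)
    fun k _ _ ζ z hz => ?_
  have hz' : (z ≫ ((EtCoh.bc f).map d).left) ≫ ((EtCoh.bc f).obj V).hom = ζ := by
    rw [Category.assoc, MorphismProperty.Over.w ((EtCoh.bc f).map d)]; exact hz
  rw [germ_map G ((EtCoh.bc f).map d) a ζ z hz _ hz' rfl, germ_map G ((EtCoh.bc f).map d) b ζ z hz _ hz' rfl]
  exact (mem_eqLocus_iff G a b ζ _ hz').1 (mem_opens_congr (Scheme.Hom.comp_apply _ _ _) (hd _))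

end Groth.Agent.H0PBC
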