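import Groth.Agent.DirColim.Basic
import Mathlib.AlgebraicGeometry.Pullbacks
import Mathlib.AlgebraicGeometry.Morphisms.Etale

/-!
# Affine pieces over a base changed affine open, descent of inclusions along directed colimits
-/

set_option autoImplicit false
set_option linter.style.haveILetI false
set_option linter.unusedSectionVars false
set_option backward.isDefEq.respectTransparency false
set_option backward.isDefEq.respectTransparency.types false
universe u

open CategoryTheory CategoryTheory.Limits AlgebraicGeometry TopologicalSpace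
open scoped TensorProduct

namespace Groth.Agent.H0PBC

variable {B : Type u} [CommRing B] {X Y : Scheme.{u}} (f : X ⟶ Y) (ι : Spec (CommRingCat.of B) ⟶ Y)

/-- an affine scheme over the affine open, seen over `Y` -/
noncomputable abbrev ym (M : Type u) [CommRing M] [Algebra B M] : Spec (CommRingCat.of M) ⟶ Y :=
  Spec.map (CommRingCat.ofHom (algebraMap B M)) ≫ ι

/-- base change of `f` to an affine scheme over the affine open -/
noncomputable abbrev PB (M : Type u) [CommRing M] [Algebra B M] : Scheme.{u} := pullback (ym ι M) f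

theorem spec_map_ym {M M' : Type u} [CommRing M] [Algebra B M] [CommRing M'] [Algebra B M'] (g : M →ₐ[B] M') :
    Spec.map (CommRingCat.ofHom g.toRingHom) ≫ ym ι M = ym ι M' := by
  rw [ym, ← Category.assoc, ← Spec.map_comp]
  exact congrArg (fun φ : B →+* M' => Spec.map (CommRingCat.ofHom φ) ≫ ι) g.comp_algebraMap

/-- transition maps of base changes -/
noncomputable def pmap {M M' : Type u} [CommRing M] [Algebra B M] [CommRing M'] [Algebra B M'] (g : M →ₐ[B] M') :
    PB f ι M' ⟶ PB f ι M :=
  pullback.map (ym ι M') f (ym ι M) f (Spec.map (CommRingCat.ofHom g.toRingHom)) (𝟙 X) (𝟙 Y)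
    ((Category.comp_id _).trans (spec_map_ym ι g).symm) ((Category.comp_id _).trans (Category.id_comp _).symm)

@[reassoc]
theorem pmap_fst {M M' : Type u} [CommRing M] [Algebra B M] [CommRing M'] [Algebra B M'] (g : M →ₐ[B] M') :
    pmap f ι g ≫ pullback.fst (ym ι M) f = pullback.fst (ym ι M') f ≫ Spec.map (CommRingCat.ofHom g.toRingHom) :=
  pullback.lift_fst _ _ _

@[reassoc]
theorem pmap_snd {M M' : Type u} [CommRing M] [Algebra B M] [CommRing M'] [Algebra B M'] (g : M →ₐ[B] M') :
    pmap f ι g ≫ pullback.snd (ym ι M) f = pullback.snd (ym ι M') f :=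
  (pullback.lift_snd _ _ _).trans (Category.comp_id _)

section tensor

variable (C : Type u) [CommRing C] [Algebra B C] (M : Type u) [CommRing M] [Algebra B M]

/-- the first projection of a tensor product -/
noncomputable abbrev incL : Spec (CommRingCat.of (C ⊗[B] M)) ⟶ Spec (CommRingCat.of C) :=
  Spec.map (CommRingCat.ofHom (Algebra.TensorProduct.includeLeftRingHom (R := B) (A := C) (B := M)))

/-- the second projection of a tensor product -/
noncomputable abbrev incR : Spec (CommRingCat.of (C ⊗[B] M)) ⟶ Spec (CommRingCat.of M) :=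
  Spec.map (CommRingCat.ofHom (Algebra.TensorProduct.includeRight (R := B) (A := C) (B := M)).toRingHom)

theorem isPullback_inc : IsPullback (incL (B := B) C M) (incR (B := B) C M)
    (Spec.map (CommRingCat.ofHom (algebraMap B C))) (Spec.map (CommRingCat.ofHom (algebraMap B M))) := by
  have h1 : (pullbackSpecIso B C M).inv ≫ pullback.fst _ _ = incL (B := B) C M := pullbackSpecIso_inv_fst B C M
  have h2 : (pullbackSpecIso B C M).inv ≫ pullback.snd _ _ = incR (B := B) C M := pullbackSpecIso_inv_snd B C M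
  refine IsPullback.of_iso_pullback ⟨?_⟩ (pullbackSpecIso B C M).symm h1 h2
  rw [← h1, ← h2, Category.assoc, Category.assoc, pullback.condition]

variable [Mono ι]

theorem isPullback_inc' : IsPullback (incL (B := B) C M) (incR (B := B) C M)
    (Spec.map (CommRingCat.ofHom (algebraMap B C)) ≫ ι) (ym ι M) := by
  have h := isPullback_inc (B := B) C M
  refine ⟨⟨(Category.assoc _ _ _).symm.trans ((congrArg (· ≫ ι) h.w).trans (Category.assoc _ _ _))⟩,
    ⟨PullbackCone.IsLimit.mk _ (fun s => h.lift s.fst s.snd ((cancel_mono ι).1 (by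
      rw [Category.assoc, Category.assoc]; exact s.condition)))
      (fun s => h.lift_fst _ _ _) (fun s => h.lift_snd _ _ _) fun s m hm₁ hm₂ =>
        h.hom_ext (hm₁.trans (h.lift_fst _ _ _).symm) (hm₂.trans (h.lift_snd _ _ _).symm)⟩⟩

variable {C} (mC : Spec (CommRingCat.of C) ⟶ X)
  (hC : mC ≫ f = Spec.map (CommRingCat.ofHom (algebraMap B C)) ≫ ι)

/-- the affine piece over the base change -/
noncomputable def tU : Spec (CommRingCat.of (C ⊗[B] M)) ⟶ PB f ι M :=
  pullback.lift (incR (B := B) C M) (incL (B := B) C M ≫ mC) (by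
    rw [Category.assoc, hC]; exact (isPullback_inc' ι C M).w.symm)

@[reassoc]
theorem tU_fst : tU f ι M mC hC ≫ pullback.fst (ym ι M) f = incR (B := B) C M := pullback.lift_fst _ _ _

@[reassoc]
theorem tU_snd : tU f ι M mC hC ≫ pullback.snd (ym ι M) f = incL (B := B) C M ≫ mC := pullback.lift_snd _ _ _

theorem isPullback_tU : IsPullback (tU f ι M mC hC) (incL (B := B) C M) (pullback.snd (ym ι M) f) mC := by
  refine IsPullback.of_right ?_ (tU_snd f ι M mC hC) (IsPullback.of_hasPullback (ym ι M) f)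
  rw [tU_fst, hC]
  exact (isPullback_inc' ι C M).flip

theorem etale_tU [Etale mC] : Etale (tU f ι M mC hC) :=
  MorphismProperty.of_isPullback (isPullback_tU f ι M mC hC).flip inferInstance

variable {M} {M' : Type u} [CommRing M'] [Algebra B M'] (g : M →ₐ[B] M')

variable (C) in
/-- transition maps of pieces -/
noncomputable abbrev tmap : Spec (CommRingCat.of (C ⊗[B] M')) ⟶ Spec (CommRingCat.of (C ⊗[B] M)) :=
  Spec.map (CommRingCat.ofHom (Algebra.TensorProduct.map (AlgHom.id C C) g).toRingHom)

omit [Mono ι] in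
theorem tmap_incL : tmap C g ≫ incL (B := B) C M = incL (B := B) C M' := by
  rw [← Spec.map_comp, ← CommRingCat.ofHom_comp]
  congr 2
  exact RingHom.ext fun c => by simp

omit [Mono ι] in
theorem tmap_incR : tmap C g ≫ incR (B := B) C M = incR (B := B) C M' ≫ Spec.map (CommRingCat.ofHom g.toRingHom) := by
  rw [← Spec.map_comp, ← CommRingCat.ofHom_comp, ← Spec.map_comp, ← CommRingCat.ofHom_comp]
  congr 2

theorem tmap_tU : tmap C g ≫ tU f ι M mC hC = tU f ι M' mC hC ≫ pmap f ι g := by
  refine pullback.hom_ext ?_ ?_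
  · rw [Category.assoc, tU_fst, tmap_incR, Category.assoc, pmap_fst, tU_fst_assoc]
  · rw [Category.assoc, tU_snd, ← Category.assoc, tmap_incL, Category.assoc, pmap_snd, tU_snd]

theorem isPullback_tmap : IsPullback (tU f ι M' mC hC) (tmap C g) (pmap f ι g) (tU f ι M mC hC) := by
  refine IsPullback.of_bot ?_ (tmap_tU f ι mC hC g).symm (isPullback_tU f ι M mC hC)
  rw [pmap_snd, tmap_incL]
  exact isPullback_tU f ι M' mC hC

variable {D : Type u} [CommRing D] [Algebra B D] (l : C →ₐ[B] D) (M)

/-- maps of pieces induced by a map of affine schemes -/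
noncomputable abbrev lmap : Spec (CommRingCat.of (D ⊗[B] M)) ⟶ Spec (CommRingCat.of (C ⊗[B] M)) :=
  Spec.map (CommRingCat.ofHom (Algebra.TensorProduct.map l (AlgHom.id B M)).toRingHom)

omit [Mono ι] in
theorem lmap_incL : lmap M l ≫ incL (B := B) C M = incL (B := B) D M ≫ Spec.map (CommRingCat.ofHom l.toRingHom) := by
  rw [← Spec.map_comp, ← CommRingCat.ofHom_comp, ← Spec.map_comp, ← CommRingCat.ofHom_comp]
  congr 2

omit [Mono ι] in
theorem lmap_incR : lmap M l ≫ incR (B := B) C M = incR (B := B) D M := by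
  rw [← Spec.map_comp, ← CommRingCat.ofHom_comp]
  congr 2
  exact RingHom.ext fun c => by simp

theorem lmap_tU (mD : Spec (CommRingCat.of D) ⟶ X)
    (hD : mD ≫ f = Spec.map (CommRingCat.ofHom (algebraMap B D)) ≫ ι)
    (e : Spec.map (CommRingCat.ofHom l.toRingHom) ≫ mC = mD) :
    lmap M l ≫ tU f ι M mC hC = tU f ι M mD hD := by
  refine pullback.hom_ext ?_ ?_
  · rw [Category.assoc, tU_fst, lmap_incR, tU_fst]
  · rw [Category.assoc, tU_snd, ← Category.assoc, lmap_incL, Category.assoc, e, tU_snd]

end tensor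

/-- points of a distinguished open lying over an open descend to a stage -/
theorem exists_stage {J : Type*} {G : J → Type u} [∀ i, CommRing (G i)] [∀ i, Algebra B (G i)] {A : Type u}
    [CommRing A] [Algebra B A] {g : ∀ i, G i →ₐ[B] A} (hG : DirColim.IsColim g) {D : Type u} [CommRing D]
    [Algebra B D] (O : Set (PrimeSpectrum D)) (hO : IsOpen O) (i : J) (x : D ⊗[B] G i)
    (h : ∀ z : PrimeSpectrum (D ⊗[B] A), Algebra.TensorProduct.map (AlgHom.id D D) (g i) x ∉ z.asIdeal →
      PrimeSpectrum.comap Algebra.TensorProduct.includeLeftRingHom z ∈ O) :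
    ∃ j, ∃ φ : DirColim.Trans g i j, ∀ z : PrimeSpectrum (D ⊗[B] G j),
      Algebra.TensorProduct.map (AlgHom.id D D) φ.1 x ∉ z.asIdeal →
        PrimeSpectrum.comap Algebra.TensorProduct.includeLeftRingHom z ∈ O := by
  obtain ⟨I, hI⟩ := (PrimeSpectrum.isClosed_iff_zeroLocus_ideal Oᶜ).1 hO.isClosed_compl
  have hmem : ∀ p : PrimeSpectrum D, p ∉ O ↔ I ≤ p.asIdeal := fun p =>
    (Set.ext_iff.1 hI p).trans (PrimeSpectrum.mem_zeroLocus p I)
  let q : D →ₐ[B] D ⧸ I := Ideal.Quotient.mkₐ B I
  let red : ∀ (M : Type u) [CommRing M] [Algebra B M], D ⊗[B] M →ₐ[B] (D ⧸ I) ⊗[B] M := fun M _ _ =>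
    Algebra.TensorProduct.map q (AlgHom.id B M)
  have hnil : IsNilpotent (red A (Algebra.TensorProduct.map (AlgHom.id D D) (g i) x)) := by
    rw [nilpotent_iff_mem_prime]
    intro P hP
    by_contra hx
    let z : PrimeSpectrum (D ⊗[B] A) := PrimeSpectrum.comap (red A).toRingHom ⟨P, hP⟩
    refine (hmem (PrimeSpectrum.comap Algebra.TensorProduct.includeLeftRingHom z)).2 (fun d hd => ?_) (h z hx)
    show red A (d ⊗ₜ[B] 1) ∈ P
    rw [Algebra.TensorProduct.map_tmul, show q d = 0 from Ideal.Quotient.eq_zero_iff_mem.2 hd,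
      TensorProduct.zero_tmul]
    exact P.zero_mem
  obtain ⟨n, hn⟩ := hnil
  have hnat : ∀ {M M' : Type u} [CommRing M] [Algebra B M] [CommRing M'] [Algebra B M'] (u : M →ₐ[B] M')
      (y : D ⊗[B] M), red M' (Algebra.TensorProduct.map (AlgHom.id D D) u y) =
        u.toLinearMap.lTensor (D ⧸ I) (red M y) := by
    intro M M' _ _ _ _ u y
    induction y using TensorProduct.induction_on with
    | zero => simp
    | tmul a b => simp [red]
    | add a b ha hb => simp only [map_add, ha, hb]
  obtain ⟨j, φ, hφ⟩ := hG.exists_tensor_eq_zero (D ⧸ I) i (red (G i) (x ^ n)) (by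
    rw [← hnat, map_pow, map_pow]; exact hn)
  refine ⟨j, φ, fun z hz => by_contra fun hO' => ?_⟩
  rw [← hnat, map_pow, map_pow] at hφ
  let ψ : D ⊗[B] G j →+* (D ⊗[B] G j) ⧸ z.asIdeal := Ideal.Quotient.mk _
  let a : D ⧸ I →+* (D ⊗[B] G j) ⧸ z.asIdeal := Ideal.Quotient.lift I (ψ.comp Algebra.TensorProduct.includeLeftRingHom)
    fun d hd => Ideal.Quotient.eq_zero_iff_mem.2 ((hmem _).1 hO' hd)
  let a' : D ⧸ I →ₐ[B] (D ⊗[B] G j) ⧸ z.asIdeal :=
    { a with
      commutes' := fun r => congrArg ψ
        ((Algebra.TensorProduct.includeLeft (R := B) (S := B) (A := D) (B := G j)).commutes r) }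
  let b' : G j →ₐ[B] (D ⊗[B] G j) ⧸ z.asIdeal :=
    (Ideal.Quotient.mkₐ B z.asIdeal).comp Algebra.TensorProduct.includeRight
  have key : ∀ y, Algebra.TensorProduct.lift a' b' (fun _ _ => .all _ _) (red (G j) y) = ψ y := by
    intro y
    induction y using TensorProduct.induction_on with
    | zero => simp
    | tmul d m =>
      rw [Algebra.TensorProduct.map_tmul, Algebra.TensorProduct.lift_tmul]
      show ψ (d ⊗ₜ[B] 1) * ψ (1 ⊗ₜ[B] m) = ψ (d ⊗ₜ[B] m)
      rw [← map_mul, Algebra.TensorProduct.tmul_mul_tmul, one_mul, mul_one]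
    | add a b ha hb => simp only [map_add, ha, hb]
  have h0 := congrArg (Algebra.TensorProduct.lift a' b' fun _ _ => .all _ _) hφ
  rw [map_zero, map_pow, key, ← map_pow] at h0
  exact hz (z.2.mem_of_pow_mem n (Ideal.Quotient.eq_zero_iff_mem.1 h0))

end Groth.Agent.H0PBC
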