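import Groth.Agent.H0PBC.Datum
import Groth.Agent.H0PBC.Pieces
import Groth.Agent.H0PBC.PushInj
import Groth.Agent.H0PBC.Tensor
import Groth.Agent.EtFound.IntegralCore

/-!
# Locally given families on a geometric fibre of a proper morphism come from the stalk of the direct image
-/

set_option autoImplicit false
set_option linter.style.haveILetI false
set_option linter.unusedSectionVars false
set_option backward.isDefEq.respectTransparency false
set_option backward.isDefEq.respectTransparency.types false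
universe u

open CategoryTheory CategoryTheory.Limits AlgebraicGeometry TopologicalSpace Opposite
open scoped TensorProduct

namespace Groth.Agent.H0PBC

variable {X Y : Scheme.{u}} (f : X ⟶ Y)

/-- the fibre product over `X` of two affine schemes over an affine open of the base is affine -/
theorem exists_pair [IsSeparated f] {B : Type u} [CommRing B] (ι : Spec (CommRingCat.of B) ⟶ Y) [Mono ι]
    {C C' : Type u} [CommRing C] [Algebra B C] [CommRing C'] [Algebra B C']
    (mC : Spec (CommRingCat.of C) ⟶ X) (hC : mC ≫ f = Spec.map (CommRingCat.ofHom (algebraMap B C)) ≫ ι)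
    (mC' : Spec (CommRingCat.of C') ⟶ X) (hC' : mC' ≫ f = Spec.map (CommRingCat.ofHom (algebraMap B C')) ≫ ι) :
    ∃ (D : Type u) (_ : CommRing D) (_ : Algebra B D) (l : C →ₐ[B] D) (l' : C' →ₐ[B] D),
      IsPullback (Spec.map (CommRingCat.ofHom l.toRingHom)) (Spec.map (CommRingCat.ofHom l'.toRingHom)) mC mC' := by
  haveI : IsAffine (pullback (mC ≫ f) (mC' ≫ f)) := by
    have h := isPullback_inc' (B := B) ι C C'
    have h' : IsPullback (incL (B := B) C C') (incR (B := B) C C') (mC ≫ f) (mC' ≫ f) := by rw [hC, hC']; exact h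
    exact IsAffine.of_isIso h'.isoPullback.inv
  haveI : IsAffine (pullback mC mC') := isAffine_of_isAffineHom (pullback.mapDesc mC mC' f)
  let Q := pullback mC mC'
  obtain ⟨φ, hφ⟩ := Spec.map_surjective (Q.isoSpec.inv ≫ pullback.fst mC mC')
  obtain ⟨φ', hφ'⟩ := Spec.map_surjective (Q.isoSpec.inv ≫ pullback.snd mC mC')
  letI : Algebra B Γ(Q, ⊤) := (φ.hom.comp (algebraMap B C)).toAlgebra
  have hcomm : φ'.hom.comp (algebraMap B C') = φ.hom.comp (algebraMap B C) := by
    refine congrArg CommRingCat.Hom.hom (Spec.map_injective ((cancel_mono ι).1 ?_) :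
      CommRingCat.ofHom (algebraMap B C') ≫ φ' = CommRingCat.ofHom (algebraMap B C) ≫ φ)
    rw [Spec.map_comp, Spec.map_comp, hφ, hφ']
    simp only [Category.assoc]
    rw [← hC, ← hC', pullback.condition_assoc]
  refine ⟨Γ(Q, ⊤), inferInstance, inferInstance, { φ.hom with commutes' := fun r => rfl },
    { φ'.hom with commutes' := fun r => DFunLike.congr_fun hcomm r }, ?_⟩
  show IsPullback (Spec.map φ) (Spec.map φ') mC mC'
  refine IsPullback.of_iso_pullback ⟨?_⟩ Q.isoSpec.symm hφ.symm hφ'.symm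
  rw [hφ, hφ', Category.assoc, Category.assoc, pullback.condition]

variable {Ω : Type u} [Field Ω] [IsAlgClosed Ω] {η : Spec (CommRingCat.of Ω) ⟶ Y}

/-- the rational point of the geometric fibre -/
noncomputable abbrev fibreSect (ξ : {ξ : Spec (CommRingCat.of Ω) ⟶ X // ξ ≫ f = η}) :
    Spec (CommRingCat.of Ω) ⟶ pullback f η :=
  pullback.lift ξ.1 (𝟙 _) (ξ.2.trans (Category.id_comp η).symm)

variable {A : Type (u + 2)} [Category.{u + 1} A] [HasColimitsOfSize.{u, u} A] [HasProducts.{u} A]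
  [((EtCoh.bc f).sheafPushforwardContinuous A Y.smallEtaleTopology X.smallEtaleTopology).IsRightAdjoint]
  {FA : A → A → Type*} {CA : A → Type (u + 1)}
  [∀ M N, FunLike (FA M N) (CA M) (CA N)] [ConcreteCategory.{u + 1} A FA]
  [PreservesFilteredColimitsOfSize.{u, u} (forget A)] [X.smallEtaleTopology.HasSheafCompose (forget A)]

/-- shrinking local data to affine schemes over an affine open of the base -/
theorem exists_affine_data (G : Sheaf X.smallEtaleTopology A) {W₀ : Y.Opens} (hW₀ : IsAffineOpen W₀)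
    (hη : η default ∈ W₀) (ξ : {ξ : Spec (CommRingCat.of Ω) ⟶ X // ξ ≫ f = η})
    (c : ∀ ξ : {ξ : Spec (CommRingCat.of Ω) ⟶ X // ξ ≫ f = η},
      ToType ((Scheme.pointSmallEtale ξ.1).sheafFiber.obj G))
    (U : X.Etale) (a₀ : Spec (CommRingCat.of Ω) ⟶ U.left) (ha₀ : a₀ ≫ U.hom = ξ.1)
    (s : ToType (G.obj.obj (op U))) (Et : (pullback U.hom (pullback.fst f η)).Opens)
    (hmem : pullback.lift a₀ (fibreSect f ξ) (ha₀.trans (pullback.lift_fst _ _ _).symm) default ∈ Et)
    (hgerm : ∀ (ξ' : {ξ : Spec (CommRingCat.of Ω) ⟶ X // ξ ≫ f = η}) (a : Spec (CommRingCat.of Ω) ⟶ U.left)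
      (ha : a ≫ U.hom = ξ'.1), pullback.lift a (fibreSect f ξ') (ha.trans (pullback.lift_fst _ _ _).symm) default ∈ Et →
        germ G s ξ'.1 a ha = c ξ') :
    ∃ (C : Type u) (_ : CommRing C) (_ : Algebra Γ(Y, W₀) C) (mC : Spec (CommRingCat.of C) ⟶ X) (_ : Etale mC)
      (_ : mC ≫ f = Spec.map (CommRingCat.ofHom (algebraMap Γ(Y, W₀) C)) ≫ hW₀.fromSpec)
      (s' : ToType (G.obj.obj (op (Scheme.Etale.mk mC)))) (a : Spec (CommRingCat.of Ω) ⟶ Spec (CommRingCat.of C))
      (ha : a ≫ mC = ξ.1) (Et' : (pullback mC (pullback.fst f η)).Opens),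
      pullback.lift a (fibreSect f ξ) (ha.trans (pullback.lift_fst _ _ _).symm) default ∈ Et' ∧
      ∀ (ξ' : {ξ : Spec (CommRingCat.of Ω) ⟶ X // ξ ≫ f = η}) (a : Spec (CommRingCat.of Ω) ⟶ Spec (CommRingCat.of C))
        (ha : a ≫ mC = ξ'.1),
        pullback.lift a (fibreSect f ξ') (ha.trans (pullback.lift_fst _ _ _).symm) default ∈ Et' →
          germ G s' ξ'.1 a ha = c ξ' := by
  haveI : Etale U.hom := U.prop
  obtain ⟨N, hN, haN, hNW⟩ := exists_isAffineOpen_mem_and_subset (U := (U.hom ≫ f) ⁻¹ᵁ W₀) (x := a₀ default) (by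
    show (U.hom ≫ f) (a₀ default) ∈ W₀
    refine Set.mem_of_eq_of_mem ((Scheme.Hom.comp_apply a₀ (U.hom ≫ f) default).symm.trans
      (congrArg (fun k : Spec (CommRingCat.of Ω) ⟶ Y => k default)
        ((Category.assoc _ _ _).symm.trans ((congrArg (· ≫ f) ha₀).trans ξ.2)))) hη)
  let φ := (U.hom ≫ f).appLE W₀ N hNW
  letI : Algebra Γ(Y, W₀) Γ(U.left, N) := φ.hom.toAlgebra
  let mC : Spec (CommRingCat.of Γ(U.left, N)) ⟶ X := hN.fromSpec ≫ U.hom
  haveI : Etale mC := inferInstanceAs (Etale (hN.fromSpec ≫ U.hom))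
  let g : Scheme.Etale.mk mC ⟶ U := MorphismProperty.Over.homMk hN.fromSpec rfl trivial
  let a : Spec (CommRingCat.of Ω) ⟶ Spec Γ(U.left, N) := IsOpenImmersion.lift hN.fromSpec a₀ (by
    rintro _ ⟨y, rfl⟩
    rw [hN.range_fromSpec, Subsingleton.elim y default]
    exact haN)
  have ha : a ≫ mC = ξ.1 := by
    show a ≫ hN.fromSpec ≫ U.hom = _
    rw [IsOpenImmersion.lift_fac_assoc, ha₀]
  let m : pullback mC (pullback.fst f η) ⟶ pullback U.hom (pullback.fst f η) :=
    pullback.map _ _ _ _ hN.fromSpec (𝟙 _) (𝟙 X) (Category.comp_id _) ((Category.comp_id _).trans (Category.id_comp _).symm)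
  have hm : ∀ (ξ' : {ξ : Spec (CommRingCat.of Ω) ⟶ X // ξ ≫ f = η}) (b : Spec (CommRingCat.of Ω) ⟶ Spec Γ(U.left, N))
      (hb : b ≫ mC = ξ'.1),
      pullback.lift b (fibreSect f ξ') (hb.trans (pullback.lift_fst _ _ _).symm) ≫ m =
        pullback.lift (b ≫ hN.fromSpec) (fibreSect f ξ')
          (((Category.assoc _ _ _).trans hb).trans (pullback.lift_fst _ _ _).symm) := by
    intro ξ' b hb
    refine pullback.hom_ext ?_ ?_ <;> simp [m]
  refine ⟨Γ(U.left, N), inferInstance, inferInstance, mC, inferInstance, ?_, G.obj.map g.op s, a, ha, m ⁻¹ᵁ Et, ?_,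
    fun ξ' b hb hEt => ?_⟩
  · show (hN.fromSpec ≫ U.hom) ≫ f = _
    rw [Category.assoc, ← hW₀.SpecMap_appLE_fromSpec (U.hom ≫ f) hN hNW]
    rfl
  · show m _ ∈ Et
    rw [← Scheme.Hom.comp_apply, hm ξ a ha]
    simpa only [a, IsOpenImmersion.lift_fac] using hmem
  · have hb' : (b ≫ hN.fromSpec) ≫ U.hom = ξ'.1 := (Category.assoc _ _ _).trans hb
    rw [germ_map G g s ξ'.1 b hb _ hb' rfl]
    refine hgerm ξ' _ hb' ?_
    rw [← hm ξ' b hb, Scheme.Hom.comp_apply]
    exact hEt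

/-- families given by affine local data come from the stalk of the direct image -/
theorem exists_preimage_affine [IsProper f] (G : Sheaf X.smallEtaleTopology A)
    (c : ∀ ξ : {ξ : Spec (CommRingCat.of Ω) ⟶ X // ξ ≫ f = η},
      ToType ((Scheme.pointSmallEtale ξ.1).sheafFiber.obj G))
    {B : Type u} [CommRing B] (ι : Spec (CommRingCat.of B) ⟶ Y) [IsOpenImmersion ι] [Algebra B Ω]
    (hηΩ : ym ι Ω = η) (C : {ξ : Spec (CommRingCat.of Ω) ⟶ X // ξ ≫ f = η} → Type u) [∀ ξ, CommRing (C ξ)]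
    [∀ ξ, Algebra B (C ξ)] (mC : ∀ ξ, Spec (CommRingCat.of (C ξ)) ⟶ X) [∀ ξ, Etale (mC ξ)]
    (hC : ∀ ξ, mC ξ ≫ f = Spec.map (CommRingCat.ofHom (algebraMap B (C ξ))) ≫ ι)
    (s : ∀ ξ, ToType (G.obj.obj (op (Scheme.Etale.mk (mC ξ)))))
    (a₀ : ∀ ξ, Spec (CommRingCat.of Ω) ⟶ Spec (CommRingCat.of (C ξ))) (ha₀ : ∀ ξ, a₀ ξ ≫ mC ξ = ξ.1)
    (Et : ∀ ξ, (pullback (mC ξ) (pullback.fst f η)).Opens)
    (hmem : ∀ ξ, pullback.lift (a₀ ξ) (fibreSect f ξ) ((ha₀ ξ).trans (pullback.lift_fst _ _ _).symm) default ∈ Et ξ)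
    (hgerm : ∀ ξ (ξ' : {ξ : Spec (CommRingCat.of Ω) ⟶ X // ξ ≫ f = η})
      (a : Spec (CommRingCat.of Ω) ⟶ Spec (CommRingCat.of (C ξ))) (ha : a ≫ mC ξ = ξ'.1),
      pullback.lift a (fibreSect f ξ') (ha.trans (pullback.lift_fst _ _ _).symm) default ∈ Et ξ →
        germ G (s ξ) ξ'.1 a ha = c ξ') :
    ∃ p, ∀ ξ : {ξ : Spec (CommRingCat.of Ω) ⟶ X // ξ ≫ f = η}, (EtFound.pushStalkAt f ξ.2).app G p = c ξ := by
  classical
  -- the strictly henselian base
  let R := Hensel.Henz B Ω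
  haveI := EtFound.henselianLocalRing_henz' B Ω
  haveI := EtFound.isSepClosed_residue_henz' B Ω
  let pr : R →ₐ[B] Ω := Hensel.Henz.proj B Ω
  let j : IsLocalRing.ResidueField R →+* Ω := Ideal.Quotient.lift (IsLocalRing.maximalIdeal R) pr.toRingHom
    fun r hr => by rw [EtFound.maximalIdeal_henz'] at hr; exact hr
  have hj : j.comp (IsLocalRing.residue R) = pr.toRingHom := RingHom.ext fun r => rfl
  let p := pullback.fst (ym ι R) f
  let π : pullback f η ⟶ PB f ι R := pullback.lift (pullback.snd f η ≫ Spec.map (CommRingCat.ofHom pr.toRingHom))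
    (pullback.fst f η) (by rw [Category.assoc, spec_map_ym, hηΩ, ← pullback.condition])
  have hπ₁ : π ≫ pullback.fst (ym ι R) f = pullback.snd f η ≫ Spec.map (CommRingCat.ofHom pr.toRingHom) :=
    pullback.lift_fst _ _ _
  have hπ₂ : π ≫ pullback.snd (ym ι R) f = pullback.fst f η := pullback.lift_snd _ _ _
  have hsq : IsPullback π (pullback.snd f η) p (Spec.map (CommRingCat.ofHom (j.comp (IsLocalRing.residue R)))) := by
    rw [hj]
    refine IsPullback.of_right ?_ hπ₁ (IsPullback.of_hasPullback (ym ι R) f).flip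
    rw [hπ₂, spec_map_ym, hηΩ]
    exact IsPullback.of_hasPullback f η
  let α := {ξ : Spec (CommRingCat.of Ω) ⟶ X // ξ ≫ f = η}
  let UC : α → X.Etale := fun ξ => Scheme.Etale.mk (mC ξ)
  let u : ∀ ξ : α, Spec (CommRingCat.of (C ξ ⊗[B] R)) ⟶ PB f ι R := fun ξ => tU f ι R (mC ξ) (hC ξ)
  haveI : ∀ ξ, Etale (u ξ) := fun ξ => etale_tU f ι R (mC ξ) (hC ξ)
  let qR : ∀ ξ : α, Spec (CommRingCat.of (C ξ ⊗[B] R)) ⟶ (UC ξ).left := fun ξ => incL (B := B) (C ξ) R
  have hqR : ∀ ξ : α, qR ξ ≫ (UC ξ).hom = u ξ ≫ pullback.snd (ym ι R) f := fun ξ => (tU_snd f ι R (mC ξ) (hC ξ)).symm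
  let ER := E G (pullback.snd (ym ι R) f) UC s u qR hqR
  let θ : ∀ ξ : α, U' π u ξ ⟶ pullback (mC ξ) (pullback.fst f η) := fun ξ =>
    pullback.map (u ξ) π (mC ξ) (pullback.fst f η) (qR ξ) (𝟙 _) (pullback.snd (ym ι R) f) (hqR ξ).symm
      (hπ₂.trans (Category.id_comp _).symm)
  let EtR : ∀ ξ : α, (U' π u ξ).Opens := fun ξ => θ ξ ⁻¹ᵁ Et ξ
  -- rational points of the pieces
  have hover : ∀ (ξ : α) (b : α) (x : Spec (CommRingCat.of Ω) ⟶ U' π u b), x ≫ v' π u b = fibreSect f ξ →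
      ((x ≫ pullback.fst (u b) π) ≫ qR b) ≫ (UC b).hom = ξ.1 := by
    intro ξ b x hx
    rw [Category.assoc, Category.assoc, hqR, pullback.condition_assoc, hπ₂, ← Category.assoc]
    exact (congrArg (· ≫ pullback.fst f η) hx).trans (pullback.lift_fst _ _ _)
  have hEtgerm : ∀ (ξ : α) (b : α) (x : Spec (CommRingCat.of Ω) ⟶ U' π u b) (hx : x ≫ v' π u b = fibreSect f ξ),
      x default ∈ EtR b → germ G (s b) ξ.1 ((x ≫ pullback.fst (u b) π) ≫ qR b) (hover ξ b x hx) = c ξ := by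
    intro ξ b x hx hm
    refine hgerm b ξ _ (hover ξ b x hx) ?_
    have e : pullback.lift ((x ≫ pullback.fst (u b) π) ≫ qR b) (fibreSect f ξ)
        ((hover ξ b x hx).trans (pullback.lift_fst _ _ _).symm) = x ≫ θ b := by
      refine pullback.hom_ext ?_ ?_
      · refine (pullback.lift_fst _ _ _).trans (Eq.trans ?_ (Category.assoc _ _ _).symm)
        exact (Category.assoc _ _ _).trans (congrArg (x ≫ ·) (pullback.lift_fst _ _ _).symm)
      · refine (pullback.lift_snd _ _ _).trans (Eq.trans ?_ (Category.assoc _ _ _).symm)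
        exact hx.symm.trans (congrArg (x ≫ ·) ((Category.comp_id _).symm.trans (pullback.lift_snd _ _ _).symm))
    exact Set.mem_of_eq_of_mem ((congrArg (fun k : Spec (CommRingCat.of Ω) ⟶ pullback (mC b) (pullback.fst f η) =>
      k default) e).trans (Scheme.Hom.comp_apply x (θ b) default)) hm
  have hbase : ∀ ξ : α, ∃ x : Spec (CommRingCat.of Ω) ⟶ U' π u ξ,
      x ≫ v' π u ξ = fibreSect f ξ ∧ x default ∈ EtR ξ := by
    intro ξ
    have h0 : (fibreSect f ξ ≫ π) ≫ pullback.snd (ym ι R) f = a₀ ξ ≫ mC ξ := by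
      rw [Category.assoc, hπ₂, pullback.lift_fst, ha₀]
    let aR := (isPullback_tU f ι R (mC ξ) (hC ξ)).lift (fibreSect f ξ ≫ π) (a₀ ξ) h0
    refine ⟨pullback.lift aR (fibreSect f ξ) (IsPullback.lift_fst _ _ _ _), pullback.lift_snd _ _ _, ?_⟩
    show θ ξ _ ∈ Et ξ
    rw [← Scheme.Hom.comp_apply]
    refine Set.mem_of_eq_of_mem (congrArg (fun k : Spec (CommRingCat.of Ω) ⟶ pullback (mC ξ) (pullback.fst f η) =>
      k default) ?_) (hmem ξ)
    refine pullback.hom_ext ?_ ?_
    · rw [Category.assoc, pullback.lift_fst, pullback.lift_fst_assoc, pullback.lift_fst]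
      exact IsPullback.lift_snd _ _ _ _
    · rw [Category.assoc, pullback.lift_snd, Category.comp_id, pullback.lift_snd, pullback.lift_snd]
  have hpair : ∀ (ξ : α) (a b : α) (r : Spec (CommRingCat.of Ω) ⟶ pullback (v' π u a) (v' π u b))
      (ha : (r ≫ pullback.fst _ _) ≫ v' π u a = fibreSect f ξ) (hb : (r ≫ pullback.snd _ _) ≫ v' π u b = fibreSect f ξ),
      (proj2 π u a b (r default) ∈ ER a b ↔
        germ G (s a) ξ.1 (((r ≫ pullback.fst _ _) ≫ pullback.fst (u a) π) ≫ qR a) (hover ξ a _ ha) =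
        germ G (s b) ξ.1 (((r ≫ pullback.snd _ _) ≫ pullback.fst (u b) π) ≫ qR b) (hover ξ b _ hb)) := by
    intro ξ a b r ha hb
    let x := (r ≫ pullback.fst _ _) ≫ pullback.fst (u a) π
    let y := (r ≫ pullback.snd _ _) ≫ pullback.fst (u b) π
    have hxy : x ≫ u a = y ≫ u b := by
      simp only [x, y, Category.assoc, pullback.condition]
      exact congrArg (r ≫ ·) (pullback.condition_assoc π)
    have e : r ≫ proj2 π u a b = pullback.lift x y hxy := by
      refine pullback.hom_ext ?_ ?_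
      · rw [Category.assoc, pullback.lift_fst, pullback.lift_fst]; exact (Category.assoc _ _ _).symm
      · rw [Category.assoc, pullback.lift_snd, pullback.lift_snd]; exact (Category.assoc _ _ _).symm
    rw [← Scheme.Hom.comp_apply, e]
    exact mem_E_iff G (pullback.snd (ym ι R) f) UC s u qR hqR x y hxy ξ.1 (hover ξ a _ ha) (hover ξ b _ hb)
  have hcov : ∀ z : ↥(pullback f η), IsClosed {z} → ∃ (a : α) (x : U' π u a), x ∈ EtR a ∧ v' π u a x = z := by
    intro z hz
    obtain ⟨ξ, hξ, e⟩ := exists_fibre_point f z hz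
    obtain ⟨x, hx, hm⟩ := hbase ⟨ξ, hξ⟩
    refine ⟨⟨ξ, hξ⟩, x default, hm, ?_⟩
    rw [← Scheme.Hom.comp_apply, hx]
    exact e
  have hagree : ∀ a b (r : ↥(pullback (v' π u a) (v' π u b))), IsClosed {r} →
      pullback.fst (v' π u a) (v' π u b) r ∈ EtR a → pullback.snd (v' π u a) (v' π u b) r ∈ EtR b →
        proj2 π u a b r ∈ ER a b := by
    intro a b r hr hra hrb
    let str := pullback.fst (v' π u a) (v' π u b) ≫ v' π u a ≫ pullback.snd f η
    haveI : LocallyOfFiniteType str := inferInstance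
    let l := pointOfClosedPoint str r hr
    have hl : l ≫ str = 𝟙 _ := pointOfClosedPoint_comp _ _ _
    have hl0 : l default = r := pointOfClosedPoint_apply _ _ _ _
    let ξ : α := ⟨((l ≫ pullback.fst _ _) ≫ v' π u a) ≫ pullback.fst f η, by
      rw [Category.assoc, pullback.condition, ← Category.assoc]
      refine (congrArg (· ≫ η) ?_).trans (Category.id_comp η)
      simpa only [str, Category.assoc] using hl⟩
    have ha : (l ≫ pullback.fst _ _) ≫ v' π u a = fibreSect f ξ := by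
      refine pullback.hom_ext ?_ ?_
      · rw [pullback.lift_fst]
      · rw [pullback.lift_snd]
        simpa only [str, Category.assoc] using hl
    have hb : (l ≫ pullback.snd _ _) ≫ v' π u b = fibreSect f ξ := by
      rw [Category.assoc, ← pullback.condition, ← Category.assoc]; exact ha
    rw [← hl0, hpair ξ a b l ha hb, hEtgerm ξ a _ ha (by rw [Scheme.Hom.comp_apply, hl0]; exact hra),
      hEtgerm ξ b _ hb (by rw [Scheme.Hom.comp_apply, hl0]; exact hrb)]
  obtain ⟨κ, hκ, idx, b, hbcov, hbagree, hbgerm⟩ :=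
    exists_pieces j p π (pullback.snd f η) hsq u ER (isEquivRel_E _ _ _ _ _ _ _) EtR hcov hagree
  -- the pieces have the prescribed germs
  have hpiece : ∀ (ξ : α) (k : κ) (aR : Spec (CommRingCat.of Ω) ⟶ Spec (CommRingCat.of (C (idx k) ⊗[B] R)))
      (haR : aR ≫ u (idx k) = fibreSect f ξ ≫ π) (h : (aR ≫ qR (idx k)) ≫ (UC (idx k)).hom = ξ.1),
      aR default ∈ (Spec (CommRingCat.of (C (idx k) ⊗[B] R))).basicOpen (b k) →
        germ G (s (idx k)) ξ.1 (aR ≫ qR (idx k)) h = c ξ := by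
    intro ξ k aR haR h hm
    obtain ⟨x₀, hx₀, hm₀⟩ := hbase ξ
    let r : Spec (CommRingCat.of Ω) ⟶ pullback (v' π u (idx k)) (v' π u ξ) :=
      pullback.lift (pullback.lift aR (fibreSect f ξ) haR) x₀ ((pullback.lift_snd _ _ _).trans hx₀.symm)
    have ha : (r ≫ pullback.fst _ _) ≫ v' π u (idx k) = fibreSect f ξ := by
      rw [pullback.lift_fst]; exact pullback.lift_snd _ _ _
    have hb : (r ≫ pullback.snd _ _) ≫ v' π u ξ = fibreSect f ξ := by rw [pullback.lift_snd]; exact hx₀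
    have h1 : (r ≫ pullback.fst _ _) ≫ pullback.fst (u (idx k)) π = aR := by
      rw [pullback.lift_fst, pullback.lift_fst]
    have key := (hpair ξ _ _ r ha hb).1 (hbgerm k ξ (r default)
      (by rw [← Scheme.Hom.comp_apply, ← Scheme.Hom.comp_apply, ← Category.assoc, h1]; exact hm)
      (by rw [← Scheme.Hom.comp_apply, pullback.lift_snd]; exact hm₀))
    rw [hEtgerm ξ ξ _ hb (by rw [pullback.lift_snd]; exact hm₀)] at key
    simpa only [h1] using key
  -- descent to an etale neighbourhood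
  let bT : ∀ k, C (idx k) ⊗[B] R := fun k => (Scheme.ΓSpecIso (CommRingCat.of (C (idx k) ⊗[B] R))).hom (b k)
  have hmemb : ∀ k (q : ↥(Spec (CommRingCat.of (C (idx k) ⊗[B] R)))),
      q ∈ (Spec (CommRingCat.of (C (idx k) ⊗[B] R))).basicOpen (b k) ↔ bT k ∉ q.asIdeal := by
    intro k q
    rw [basicOpen_eq_of_affine']
    exact Iff.rfl
  haveI : Fintype κ := Fintype.ofFinite κ
  have hcol := EtFound.isColim_henz B Ω
  obtain ⟨N, hN⟩ := hcol.eventually_forall
    (fun k N => ∃ x : C (idx k) ⊗[B] N.B, Algebra.TensorProduct.map (AlgHom.id (C (idx k)) (C (idx k))) (Hensel.Henz.ofB N) x = bT k)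
    (fun k N M φ ⟨x, hx⟩ => ⟨Algebra.TensorProduct.map (AlgHom.id (C (idx k)) (C (idx k))) φ.1 x, by
      rw [← AlgHom.comp_apply, ← Algebra.TensorProduct.map_comp, φ.2, AlgHom.comp_id, hx]⟩)
    Finset.univ fun k _ => (hcol.baseChange (C (idx k))).surj (bT k)
  choose xN hxN using fun k => hN k (Finset.mem_univ k)
  choose D iD iDA l l' hD using fun kl : κ × κ =>
    exists_pair f ι (mC (idx kl.1)) (hC _) (mC (idx kl.2)) (hC _)
  letI : ∀ kl, CommRing (D kl) := iD
  letI : ∀ kl, Algebra B (D kl) := iDA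
  let mA : ∀ kl : κ × κ, Spec (CommRingCat.of (D kl)) ⟶ (prodEt (UC (idx kl.1)) (UC (idx kl.2))).left := fun kl =>
    pullback.lift (Spec.map (CommRingCat.ofHom (l kl).toRingHom)) (Spec.map (CommRingCat.ofHom (l' kl).toRingHom))
      (hD kl).w
  let Oagree : ∀ kl : κ × κ, Set (PrimeSpectrum (D kl)) := fun kl => mA kl ⁻¹' (agree G (s (idx kl.1)) (s (idx kl.2)) : Set _)
  let prodx : ∀ (kl : κ × κ) {M : Type u} [CommRing M] [Algebra B M] (x₁ : C (idx kl.1) ⊗[B] M)
      (x₂ : C (idx kl.2) ⊗[B] M), D kl ⊗[B] M := fun kl M _ _ x₁ x₂ =>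
    Algebra.TensorProduct.map (l kl) (AlgHom.id B M) x₁ * Algebra.TensorProduct.map (l' kl) (AlgHom.id B M) x₂
  have hnat : ∀ {C' D' M M' : Type u} [CommRing C'] [Algebra B C'] [CommRing D'] [Algebra B D'] [CommRing M]
      [Algebra B M] [CommRing M'] [Algebra B M'] (g : M →ₐ[B] M') (m : C' →ₐ[B] D') (y : C' ⊗[B] M),
      Algebra.TensorProduct.map (AlgHom.id D' D') g (Algebra.TensorProduct.map m (AlgHom.id B M) y) =
        Algebra.TensorProduct.map m (AlgHom.id B M') (Algebra.TensorProduct.map (AlgHom.id C' C') g y) := by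
    intro C' D' M M' _ _ _ _ _ _ _ _ g m y
    induction y using TensorProduct.induction_on with
    | zero => simp
    | tmul a b => simp
    | add a b ha hb => simp only [map_add, ha, hb]
  have hprod : ∀ (kl : κ × κ) {M M' : Type u} [CommRing M] [Algebra B M] [CommRing M'] [Algebra B M']
      (g : M →ₐ[B] M') (x₁ : C (idx kl.1) ⊗[B] M) (x₂ : C (idx kl.2) ⊗[B] M),
      Algebra.TensorProduct.map (AlgHom.id (D kl) (D kl)) g (prodx kl x₁ x₂) =
        prodx kl (Algebra.TensorProduct.map (AlgHom.id (C (idx kl.1)) (C (idx kl.1))) g x₁)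
          (Algebra.TensorProduct.map (AlgHom.id (C (idx kl.2)) (C (idx kl.2))) g x₂) := by
    intro kl M M' _ _ _ _ g x₁ x₂
    simp only [prodx, map_mul, hnat]
  let Good : κ × κ → ∀ M : Hensel.Nbhd B Ω, DirColim.Trans (fun N => Hensel.Henz.ofB N) N M → Prop := fun kl M φ =>
    ∀ z : PrimeSpectrum (D kl ⊗[B] M.B),
      Algebra.TensorProduct.map (AlgHom.id (D kl) (D kl)) φ.1 (prodx kl (xN kl.1) (xN kl.2)) ∉ z.asIdeal →
        PrimeSpectrum.comap Algebra.TensorProduct.includeLeftRingHom z ∈ Oagree kl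
  have hmono : ∀ (kl : κ × κ) (M M' : Hensel.Nbhd B Ω) (φ : DirColim.Trans (fun N => Hensel.Henz.ofB N) N M)
      (ψ : DirColim.Trans (fun N => Hensel.Henz.ofB N) M M'), Good kl M φ → Good kl M' (ψ.comp φ) := by
    intro kl M M' φ ψ hgood z hz
    have e := hgood (PrimeSpectrum.comap (Algebra.TensorProduct.map (AlgHom.id (D kl) (D kl)) ψ.1).toRingHom z)
      (fun hx => hz (by
        rw [show (ψ.comp φ).1 = ψ.1.comp φ.1 from rfl,
          ← AlgHom.comp_id (AlgHom.id (D kl) (D kl)), Algebra.TensorProduct.map_comp, AlgHom.comp_apply]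
        exact hx))
    refine Set.mem_of_eq_of_mem ?_ e
    rw [← PrimeSpectrum.comap_comp_apply]
    congr 1
    exact RingHom.ext fun d => by simp
  have hgoodR : ∀ (kl : κ × κ) (z : PrimeSpectrum (D kl ⊗[B] R)), prodx kl (bT kl.1) (bT kl.2) ∉ z.asIdeal →
      PrimeSpectrum.comap Algebra.TensorProduct.includeLeftRingHom z ∈ Oagree kl := by
    intro kl z hz
    let w : Spec (CommRingCat.of (D kl ⊗[B] R)) ⟶ pullback (u (idx kl.1)) (u (idx kl.2)) :=
      pullback.lift (lmap R (l kl)) (lmap R (l' kl)) (by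
        rw [lmap_tU f ι R (mC _) (hC _) (l kl) _
            (by
              rw [Category.assoc, hC, ← Category.assoc, ← Spec.map_comp, ← CommRingCat.ofHom_comp]
              exact congrArg (fun φ : B →+* D kl => Spec.map (CommRingCat.ofHom φ) ≫ ι) (l kl).comp_algebraMap) rfl,
          lmap_tU f ι R (mC _) (hC _) (l' kl) _ _ (hD kl).w.symm])
    have hE := hbagree kl.1 kl.2 (w z)
      (by
        rw [← Scheme.Hom.comp_apply, pullback.lift_fst, hmemb]
        exact fun h1 => hz (z.asIdeal.mul_mem_right _ h1))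
      (by
        rw [← Scheme.Hom.comp_apply, pullback.lift_snd, hmemb]
        exact fun h1 => hz (z.asIdeal.mul_mem_left _ h1))
    have e : w ≫ pullback.map (u (idx kl.1)) (u (idx kl.2)) (UC (idx kl.1)).hom (UC (idx kl.2)).hom
        (qR (idx kl.1)) (qR (idx kl.2)) (pullback.snd (ym ι R) f) (hqR _).symm (hqR _).symm =
        incL (B := B) (D kl) R ≫ mA kl := by
      refine pullback.hom_ext ?_ ?_
      · rw [Category.assoc, pullback.lift_fst, pullback.lift_fst_assoc, Category.assoc, pullback.lift_fst]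
        exact lmap_incL R (l kl)
      · rw [Category.assoc, pullback.lift_snd, pullback.lift_snd_assoc, Category.assoc, pullback.lift_snd]
        exact lmap_incL R (l' kl)
    show mA kl (incL (B := B) (D kl) R z) ∈ agree G (s (idx kl.1)) (s (idx kl.2))
    refine Set.mem_of_eq_of_mem ?_ hE
    have e' := congrArg (fun k : _ ⟶ pullback (mC (idx kl.1)) (mC (idx kl.2)) => k.base z) e
    simp only [Scheme.Hom.comp_apply] at e'
    exact e'.symm
  obtain ⟨M, φ, hM⟩ : ∃ (M : Hensel.Nbhd B Ω) (φ : DirColim.Trans (fun N => Hensel.Henz.ofB N) N M),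
      ∀ kl, Good kl M φ := by
    suffices h : ∀ t : Finset (κ × κ), ∃ M φ, ∀ kl ∈ t, Good kl M φ by
      obtain ⟨M, φ, h'⟩ := h Finset.univ
      exact ⟨M, φ, fun kl => h' kl (Finset.mem_univ kl)⟩
    intro t
    induction t using Finset.induction_on with
    | empty => exact ⟨N, ⟨AlgHom.id B N.B, AlgHom.comp_id _⟩, by simp⟩
    | insert kl t _ ih =>
      obtain ⟨M, φ, hφ⟩ := ih
      obtain ⟨M', ψ, hψ⟩ := exists_stage hcol (Oagree kl) ((agree G _ _).2.preimage (mA kl).continuous) M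
        (Algebra.TensorProduct.map (AlgHom.id (D kl) (D kl)) φ.1 (prodx kl (xN kl.1) (xN kl.2))) (fun z hz => by
          refine hgoodR kl z ?_
          rwa [← AlgHom.comp_apply, ← Algebra.TensorProduct.map_comp, AlgHom.comp_id, φ.2, hprod, hxN, hxN] at hz)
      refine ⟨M', ψ.comp φ, fun kl' hkl' => ?_⟩
      rcases Finset.mem_insert.1 hkl' with rfl | hkl'
      · intro z hz
        refine hψ z (fun hx => hz ?_)
        rw [show (ψ.comp φ).1 = ψ.1.comp φ.1 from rfl,
          ← AlgHom.comp_id (AlgHom.id (D kl') (D kl')), Algebra.TensorProduct.map_comp, AlgHom.comp_apply]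
        exact hx
      · exact hmono kl' M M' φ ψ (hφ kl' hkl')
  -- a neighbourhood over which the pieces cover
  let xM : ∀ k, C (idx k) ⊗[B] M.B := fun k =>
    Algebra.TensorProduct.map (AlgHom.id (C (idx k)) (C (idx k))) φ.1 (xN k)
  have hxM : ∀ k, Algebra.TensorProduct.map (AlgHom.id (C (idx k)) (C (idx k))) (Hensel.Henz.ofB M) (xM k) = bT k := by
    intro k
    rw [← AlgHom.comp_apply, ← Algebra.TensorProduct.map_comp, φ.2, AlgHom.comp_id, hxN]
  haveI : ∀ k, Etale (tU f ι M.B (mC (idx k)) (hC _)) := fun k => etale_tU f ι M.B (mC (idx k)) (hC _)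
  let OM : Set (PB f ι M.B) := ⋃ k, tU f ι M.B (mC (idx k)) (hC _) '' ((PrimeSpectrum.basicOpen (xM k)) : Set (PrimeSpectrum (C (idx k) ⊗[B] M.B)))
  have hOMo : IsOpen OM := isOpen_iUnion fun k => (tU f ι M.B (mC (idx k)) (hC _)).isOpenMap _
    (PrimeSpectrum.basicOpen (xM k)).2
  let mbar : PrimeSpectrum M.B := PrimeSpectrum.comap M.toK.toRingHom (default : PrimeSpectrum Ω)
  have hbot : ∀ y : PrimeSpectrum Ω, y.asIdeal = ⊥ := fun y => (Ideal.eq_bot_or_top y.asIdeal).resolve_right y.2.ne_top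
  have hproj : ∀ M' : Hensel.Nbhd B Ω, pr.toRingHom.comp (Hensel.Henz.ofB M').toRingHom = M'.toK.toRingHom :=
    fun M' => RingHom.ext fun x => Hensel.Henz.proj_ofB M' x
  have hfib : ∀ x : PB f ι M.B, pullback.fst (ym ι M.B) f x = mbar → x ∈ OM := by
    intro x hx
    have hsqM : IsPullback (pullback.fst (ym ι R) f) (pmap f ι (Hensel.Henz.ofB M))
        (Spec.map (CommRingCat.ofHom (Hensel.Henz.ofB M).toRingHom)) (pullback.fst (ym ι M.B) f) := by
      refine (IsPullback.of_right ?_ (pmap_fst f ι _) (IsPullback.of_hasPullback (ym ι M.B) f).flip).flip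
      rw [pmap_snd, spec_map_ym]
      exact (IsPullback.of_hasPullback (ym ι R) f).flip
    obtain ⟨y, hy₁, hy₂⟩ := Scheme.exists_preimage_of_isPullback hsqM (IsLocalRing.closedPoint R) x (by
      rw [hx]
      refine PrimeSpectrum.ext ?_
      show (IsLocalRing.maximalIdeal R).comap (Hensel.Henz.ofB M).toRingHom = (default : PrimeSpectrum Ω).asIdeal.comap M.toK.toRingHom
      rw [hbot, EtFound.maximalIdeal_henz', ← hproj M, ← Ideal.comap_comap]
      rfl)
    obtain ⟨k, q, hq, hqy⟩ := hbcov y hy₁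
    refine Set.mem_iUnion.2 ⟨k, tmap (C (idx k)) (Hensel.Henz.ofB M) q, ?_, ?_⟩
    · show Algebra.TensorProduct.map (AlgHom.id (C (idx k)) (C (idx k))) (Hensel.Henz.ofB M) (xM k) ∉ q.asIdeal
      rw [hxM]
      exact (hmemb k q).1 hq
    · rw [← Scheme.Hom.comp_apply, tmap_tU, Scheme.Hom.comp_apply]
      exact (congrArg (pmap f ι (Hensel.Henz.ofB M)) hqy).trans hy₂
  have hclosed : IsClosed (pullback.fst (ym ι M.B) f '' OMᶜ) :=
    (pullback.fst (ym ι M.B) f).isClosedMap _ hOMo.isClosed_compl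
  obtain ⟨_, ⟨r₀, rfl⟩, hmr, hr₀⟩ := PrimeSpectrum.isTopologicalBasis_basic_opens.exists_subset_of_mem_open
    (show mbar ∈ (pullback.fst (ym ι M.B) f '' OMᶜ)ᶜ from fun ⟨x, hx, e⟩ => hx (hfib x e)) hclosed.isOpen_compl
  have hr₀K : IsUnit (M.toK r₀) := isUnit_iff_ne_zero.2 fun e => hmr (by
    show M.toK r₀ ∈ (default : PrimeSpectrum Ω).asIdeal
    rw [e]; exact Ideal.zero_mem _)
  obtain ⟨M', αM, hαM, hαu, -⟩ := M.exists_away ⟨r₀, hr₀K⟩
  let φ' : DirColim.Trans (fun N => Hensel.Henz.ofB N) M M' := ⟨αM, Hensel.Henz.ofB_comp αM hαM⟩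
  let xM' : ∀ k, C (idx k) ⊗[B] M'.B := fun k =>
    Algebra.TensorProduct.map (AlgHom.id (C (idx k)) (C (idx k))) φ'.1 (xM k)
  have hxM' : ∀ k, Algebra.TensorProduct.map (AlgHom.id (C (idx k)) (C (idx k))) (Hensel.Henz.ofB M') (xM' k) = bT k := by
    intro k
    rw [← AlgHom.comp_apply, ← Algebra.TensorProduct.map_comp, φ'.2, AlgHom.comp_id, hxM]
  have hcovM' : ∀ x : PB f ι M'.B, ∃ k, ∃ q ∈ PrimeSpectrum.basicOpen (xM' k),
      tU f ι M'.B (mC (idx k)) (hC _) q = x := by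
    intro x
    have hx : pmap f ι φ'.1 x ∈ OM := by
      by_contra hx
      refine hr₀ ?_ ⟨_, hx, rfl⟩
      rw [← Scheme.Hom.comp_apply, pmap_fst, Scheme.Hom.comp_apply]
      show ¬ αM r₀ ∈ (pullback.fst (ym ι M'.B) f x).asIdeal
      exact fun hm => (pullback.fst (ym ι M'.B) f x).2.ne_top (Ideal.eq_top_of_isUnit_mem _ hm hαu)
    obtain ⟨k, q, hq, hqx⟩ := Set.mem_iUnion.1 hx
    obtain ⟨q', hq', hq''⟩ := Scheme.exists_preimage_of_isPullback (isPullback_tmap f ι (mC (idx k)) (hC _) φ'.1)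
      x q hqx.symm
    refine ⟨k, q', ?_, hq'⟩
    show Algebra.TensorProduct.map (AlgHom.id (C (idx k)) (C (idx k))) φ'.1 (xM k) ∉ q'.asIdeal
    exact fun hm => hq (hq''.symm ▸ hm)
  have hgood' : ∀ kl, Good kl M' (φ'.comp φ) := fun kl => hmono kl M M' φ φ' (hM kl)
  -- glueing
  haveI : Etale (ym ι M'.B) := by
    have : Etale (Spec.map (CommRingCat.ofHom (algebraMap B M'.B))) :=
      (HasRingHomProperty.Spec_iff (P := @Etale)).2 (RingHom.etale_algebraMap.2 inferInstance)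
    exact inferInstanceAs (Etale (Spec.map (CommRingCat.ofHom (algebraMap B M'.B)) ≫ ι))
  haveI : ∀ k, Etale (tU f ι M'.B (mC (idx k)) (hC _)) := fun k => etale_tU f ι M'.B (mC (idx k)) (hC _)
  let Vn : Y.Etale := Scheme.Etale.mk (ym ι M'.B)
  let T := (EtCoh.bc f).obj Vn
  let UM : κ → X.Etale := fun k => Scheme.Etale.mk (tU f ι M'.B (mC (idx k)) (hC _) ≫ pullback.snd (ym ι M'.B) f)
  let toU : ∀ k, UM k ⟶ UC (idx k) := fun k =>
    MorphismProperty.Over.homMk (incL (B := B) (C (idx k)) M'.B) (tU_snd f ι M'.B (mC (idx k)) (hC _)).symm trivial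
  let toT : ∀ k, UM k ⟶ T := fun k => MorphismProperty.Over.homMk (tU f ι M'.B (mC (idx k)) (hC _)) rfl trivial
  let Dk : ∀ k, (UM k).left.Opens := fun k => PrimeSpectrum.basicOpen (xM' k)
  let gk : ∀ k, EtFound.restrictEtale (UM k) (Dk k) ⟶ T := fun k => EtFound.restrictEtaleHom (UM k) (Dk k) ≫ toT k
  obtain ⟨σ, hσ⟩ := exists_glue G gk (fun x => by
      obtain ⟨k, q, hq, hqx⟩ := hcovM' x
      refine ⟨k, ⟨q, hq⟩, ?_⟩
      exact (Scheme.Hom.comp_apply (Dk k).ι (tU f ι M'.B (mC (idx k)) (hC _)) _).trans hqx)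
    (fun k => G.obj.map (EtFound.restrictEtaleHom (UM k) (Dk k) ≫ toU k).op (s (idx k)))
    (by
      intro k k' Ω' _ _ ξ a ha a' ha' hab
      let x : Spec (CommRingCat.of Ω') ⟶ Spec (CommRingCat.of (C (idx k) ⊗[B] M'.B)) := a ≫ (Dk k).ι
      let x' : Spec (CommRingCat.of Ω') ⟶ Spec (CommRingCat.of (C (idx k') ⊗[B] M'.B)) := a' ≫ (Dk k').ι
      have hx : x ≫ tU f ι M'.B (mC (idx k)) (hC _) = x' ≫ tU f ι M'.B (mC (idx k')) (hC _) :=
        (Category.assoc _ _ _).trans (hab.trans (Category.assoc _ _ _).symm)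
      have e₁ : (x ≫ incL (B := B) (C (idx k)) M'.B) ≫ mC (idx k) = ξ := by
        rw [Category.assoc, ← tU_snd f ι M'.B (mC (idx k)) (hC _)]
        exact (Category.assoc _ _ _).trans ha
      have e₂ : (x' ≫ incL (B := B) (C (idx k')) M'.B) ≫ mC (idx k') = ξ := by
        rw [Category.assoc, ← tU_snd f ι M'.B (mC (idx k')) (hC _)]
        exact (Category.assoc _ _ _).trans ha'
      refine (germ_map G _ (s (idx k)) ξ a ha (x ≫ incL (B := B) (C (idx k)) M'.B) e₁ (Category.assoc _ _ _).symm).trans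
        (Eq.trans ?_ (germ_map G _ (s (idx k')) ξ a' ha' (x' ≫ incL (B := B) (C (idx k')) M'.B) e₂
          (Category.assoc _ _ _).symm).symm)
      refine (mem_agree_iff G (s (idx k)) (s (idx k')) ξ _ e₁ _ e₂).1 ?_
      let kl : κ × κ := (k, k')
      let mD : Spec (CommRingCat.of (D kl)) ⟶ X := Spec.map (CommRingCat.ofHom (l kl).toRingHom) ≫ mC (idx k)
      have hmD : mD ≫ f = Spec.map (CommRingCat.ofHom (algebraMap B (D kl))) ≫ ι := by
        rw [Category.assoc, hC, ← Category.assoc, ← Spec.map_comp, ← CommRingCat.ofHom_comp]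
        exact congrArg (fun φ : B →+* D kl => Spec.map (CommRingCat.ofHom φ) ≫ ι) (l kl).comp_algebraMap
      let xD : Spec (CommRingCat.of Ω') ⟶ Spec (CommRingCat.of (D kl)) :=
        (hD kl).lift (x ≫ incL (B := B) (C (idx k)) M'.B) (x' ≫ incL (B := B) (C (idx k')) M'.B) (e₁.trans e₂.symm)
      let z : Spec (CommRingCat.of Ω') ⟶ Spec (CommRingCat.of (D kl ⊗[B] M'.B)) :=
        (isPullback_tU f ι M'.B mD hmD).lift (x ≫ tU f ι M'.B (mC (idx k)) (hC _)) xD (by
          rw [Category.assoc, tU_snd, ← Category.assoc, ← Category.assoc, IsPullback.lift_fst])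
      have hz₁ : z ≫ lmap M'.B (l kl) = x := by
        refine (isPullback_tU f ι M'.B (mC (idx k)) (hC _)).hom_ext ?_ ?_
        · rw [Category.assoc, lmap_tU f ι M'.B (mC (idx k)) (hC _) (l kl) mD hmD rfl, IsPullback.lift_fst]
        · rw [Category.assoc, lmap_incL, ← Category.assoc, IsPullback.lift_snd, IsPullback.lift_fst]
      have hz₂ : z ≫ lmap M'.B (l' kl) = x' := by
        refine (isPullback_tU f ι M'.B (mC (idx k')) (hC _)).hom_ext ?_ ?_
        · rw [Category.assoc, lmap_tU f ι M'.B (mC (idx k')) (hC _) (l' kl) mD hmD (hD kl).w.symm,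
            IsPullback.lift_fst, hx]
        · rw [Category.assoc, lmap_incL, ← Category.assoc, IsPullback.lift_snd, IsPullback.lift_snd]
      have hmem := hgood' kl (z default) (by
        rw [show (φ'.comp φ).1 = φ'.1.comp φ.1 from rfl, ← AlgHom.comp_id (AlgHom.id (D kl) (D kl)),
          Algebra.TensorProduct.map_comp, AlgHom.comp_apply, hprod, hprod]
        intro hm
        rcases (z default).2.mem_or_mem hm with hm | hm
        · have := (a default).2
          refine this ?_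
          have e : x default = lmap M'.B (l kl) (z default) := by rw [← Scheme.Hom.comp_apply, hz₁]
          exact (congrArg (fun P : PrimeSpectrum _ => xM' k ∈ P.asIdeal) e).mpr hm
        · have := (a' default).2
          refine this ?_
          have e : x' default = lmap M'.B (l' kl) (z default) := by rw [← Scheme.Hom.comp_apply, hz₂]
          exact (congrArg (fun P : PrimeSpectrum _ => xM' k' ∈ P.asIdeal) e).mpr hm)
      have efin : pullback.lift (x ≫ incL (B := B) (C (idx k)) M'.B) (x' ≫ incL (B := B) (C (idx k')) M'.B)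
          (e₁.trans e₂.symm) = (z ≫ incL (B := B) (D kl) M'.B) ≫ mA kl := by
        rw [IsPullback.lift_snd]
        refine pullback.hom_ext ?_ ?_
        · refine (pullback.lift_fst _ _ _).trans (Eq.trans ?_ (Category.assoc _ _ _).symm)
          exact ((hD kl).lift_fst _ _ _).symm.trans (congrArg (xD ≫ ·) (pullback.lift_fst _ _ _).symm)
        · refine (pullback.lift_snd _ _ _).trans (Eq.trans ?_ (Category.assoc _ _ _).symm)
          exact ((hD kl).lift_snd _ _ _).symm.trans (congrArg (xD ≫ ·) (pullback.lift_snd _ _ _).symm)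
      exact Set.mem_of_eq_of_mem ((congrArg (fun k : Spec (CommRingCat.of Ω') ⟶ (prodEt (UC (idx kl.1)) (UC (idx kl.2))).left =>
        k default) efin).trans ((Scheme.Hom.comp_apply _ _ _).trans
          (congrArg (mA kl) (Scheme.Hom.comp_apply _ _ _)))) hmem)
  let vK : Spec (CommRingCat.of Ω) ⟶ Spec (CommRingCat.of M'.B) := Spec.map (CommRingCat.ofHom M'.toK.toRingHom)
  let v : (Scheme.pointSmallEtale η).fiber.obj Vn :=
    CategoryTheory.Over.homMk vK ((spec_map_ym ι M'.toK).trans hηΩ)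
  refine ⟨(Scheme.pointSmallEtale η).toPresheafFiber Vn v
    (((EtCoh.bc f).sheafPushforwardContinuous A Y.smallEtaleTopology X.smallEtaleTopology).obj G).obj σ,
    fun ξ => (EtFound.pushStalkAt_germ_apply f ξ.2 G v σ).trans ?_⟩
  have hy : p ((fibreSect f ξ ≫ π) default) = IsLocalRing.closedPoint R := by
    rw [Scheme.Hom.comp_apply]
    exact apply_of_fibre j p π (pullback.snd f η) hsq _
  obtain ⟨k, q, hq, hqy⟩ := hbcov _ hy
  obtain ⟨aR, haR, haRq⟩ := Scheme.exists_fac_of_etale_of_isSepClosed (u (idx k)) (fibreSect f ξ ≫ π) q hqy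
  have hover' : (aR ≫ qR (idx k)) ≫ (UC (idx k)).hom = ξ.1 := by
    rw [Category.assoc, hqR, reassoc_of% haR, hπ₂, pullback.lift_fst]
  let aM : Spec (CommRingCat.of Ω) ⟶ Spec (CommRingCat.of (C (idx k) ⊗[B] M'.B)) :=
    aR ≫ tmap (C (idx k)) (Hensel.Henz.ofB M')
  let aD : Spec (CommRingCat.of Ω) ⟶ (Dk k : Scheme.{u}) := IsOpenImmersion.lift (Dk k).ι aM (by
    rintro _ ⟨y, rfl⟩
    rw [Scheme.Opens.range_ι, Subsingleton.elim y default, Scheme.Hom.comp_apply, haRq]
    show Algebra.TensorProduct.map (AlgHom.id (C (idx k)) (C (idx k))) (Hensel.Henz.ofB M') (xM' k) ∉ q.asIdeal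
    rw [hxM']
    exact (hmemb k q).1 hq)
  have haD : aD ≫ (Dk k).ι = aM := IsOpenImmersion.lift_fac _ _ _
  have hgk : aD ≫ (gk k).left = (EtFound.liftPt f ξ.2 v).left := by
    show aD ≫ (Dk k).ι ≫ tU f ι M'.B (mC (idx k)) (hC _) = pullback.lift vK ξ.1 _
    rw [← Category.assoc, haD, Category.assoc, tmap_tU, reassoc_of% haR]
    refine pullback.hom_ext ?_ ?_
    · rw [pullback.lift_fst, Category.assoc, Category.assoc, pmap_fst, ← Category.assoc π, hπ₁, Category.assoc,
        ← Spec.map_comp, ← CommRingCat.ofHom_comp, hproj, pullback.lift_snd_assoc, Category.id_comp]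
    · rw [pullback.lift_snd, Category.assoc, Category.assoc, pmap_snd, hπ₂, pullback.lift_fst]
  have haDhom : aD ≫ (EtFound.restrictEtale (UM k) (Dk k)).hom = ξ.1 := by
    rw [← MorphismProperty.Over.w (gk k), reassoc_of% hgk]
    exact CategoryTheory.Over.w (EtFound.liftPt f ξ.2 v)
  refine (germ_map G (gk k) σ ξ.1 aD haDhom _ (CategoryTheory.Over.w (EtFound.liftPt f ξ.2 v)) hgk).symm.trans ?_
  rw [hσ k]
  refine (germ_map G (EtFound.restrictEtaleHom (UM k) (Dk k) ≫ toU k) (s (idx k)) ξ.1 aD haDhom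
    (aR ≫ qR (idx k)) hover' ?_).trans (hpiece ξ k aR haR hover' ?_)
  · show aD ≫ (Dk k).ι ≫ incL (B := B) (C (idx k)) M'.B = _
    rw [reassoc_of% haD, Category.assoc, tmap_incL]
  · rw [haRq]; exact hq

/-- families given by local sections on a geometric fibre come from the stalk of the direct image -/
theorem exists_preimage_proper [IsProper f] (G : Sheaf X.smallEtaleTopology A)
    (c : ∀ ξ : {ξ : Spec (CommRingCat.of Ω) ⟶ X // ξ ≫ f = η},
      ToType ((Scheme.pointSmallEtale ξ.1).sheafFiber.obj G))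
    (hc : ∀ ξ : {ξ : Spec (CommRingCat.of Ω) ⟶ X // ξ ≫ f = η},
      ∃ (U : X.Etale) (a₀ : Spec (CommRingCat.of Ω) ⟶ U.left) (ha₀ : a₀ ≫ U.hom = ξ.1)
        (s : ToType (G.obj.obj (op U))) (Et : (pullback U.hom (pullback.fst f η)).Opens),
        pullback.lift a₀ (fibreSect f ξ) (ha₀.trans (pullback.lift_fst _ _ _).symm) default ∈ Et ∧
        ∀ (ξ' : {ξ : Spec (CommRingCat.of Ω) ⟶ X // ξ ≫ f = η}) (a : Spec (CommRingCat.of Ω) ⟶ U.left)
          (ha : a ≫ U.hom = ξ'.1),
          pullback.lift a (fibreSect f ξ') (ha.trans (pullback.lift_fst _ _ _).symm) default ∈ Et →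
            germ G s ξ'.1 a ha = c ξ') :
    ∃ p, ∀ ξ : {ξ : Spec (CommRingCat.of Ω) ⟶ X // ξ ≫ f = η}, (EtFound.pushStalkAt f ξ.2).app G p = c ξ := by
  classical
  obtain ⟨W₀, hW₀, hη, -⟩ := exists_isAffineOpen_mem_and_subset (U := (⊤ : Y.Opens)) (x := η default) trivial
  obtain ⟨β, hβ⟩ := Spec.map_surjective (IsOpenImmersion.lift hW₀.fromSpec η (by
    rintro _ ⟨y, rfl⟩
    rw [hW₀.range_fromSpec, Subsingleton.elim y default]
    exact hη))
  letI : Algebra Γ(Y, W₀) Ω := β.hom.toAlgebra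
  have hηΩ : ym hW₀.fromSpec Ω = η := by
    show Spec.map β ≫ hW₀.fromSpec = η
    rw [hβ, IsOpenImmersion.lift_fac]
  choose U₀ a₀₀ ha₀₀ s₀₀ Et₀₀ hmem₀₀ hgerm₀₀ using hc
  choose C iC iA mC hEt' hC s a₀ ha₀ Et hmem hgerm using fun ξ =>
    exists_affine_data f G hW₀ hη ξ c (U₀ ξ) (a₀₀ ξ) (ha₀₀ ξ) (s₀₀ ξ) (Et₀₀ ξ) (hmem₀₀ ξ) (hgerm₀₀ ξ)
  exact @exists_preimage_affine _ _ f _ _ _ η A _ _ _ _ FA CA _ _ _ _ _ G c _ _ hW₀.fromSpec _ _ hηΩ C iC iA mC hEt' hC
    s a₀ ha₀ Et hmem hgerm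

end Groth.Agent.H0PBC
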