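import Groth.Agent.H0PBC.Datum
import Groth.Agent.EtFound.IntegralBaseChange

/-!
# Germs of inverse images of sections
-/

set_option autoImplicit false
set_option linter.style.haveILetI false
set_option linter.unusedSectionVars false
set_option backward.isDefEq.respectTransparency.types false
universe u

open CategoryTheory CategoryTheory.Limits AlgebraicGeometry TopologicalSpace Opposite

namespace Groth.Agent.H0PBC

variable {X Y : Scheme.{u}} {A : Type (u + 2)} [Category.{u + 1} A] [HasColimitsOfSize.{u, u} A]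
  [HasProducts.{u} A]
  [∀ {P Q : Scheme.{u}} (h : P ⟶ Q),
    ((EtCoh.bc h).sheafPushforwardContinuous A Q.smallEtaleTopology P.smallEtaleTopology).IsRightAdjoint]
  {FA : A → A → Type*} {CA : A → Type (u + 1)}
  [∀ M N, FunLike (FA M N) (CA M) (CA N)] [ConcreteCategory.{u + 1} A FA]
  [PreservesFilteredColimitsOfSize.{u, u} (forget A)]

/-- the inverse image of a section -/
noncomputable def pullSect (f : X ⟶ Y) (F : Sheaf Y.smallEtaleTopology A) {U : Y.Etale}
    (s : ToType (F.obj.obj (op U))) : ToType (((EtFound.pullA A f).obj F).obj.obj (op ((EtCoh.bc f).obj U))) :=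
  ((((EtCoh.bc f).sheafAdjunctionContinuous A Y.smallEtaleTopology X.smallEtaleTopology).unit.app F).hom.app
    (op U)) s

/-- stalks of inverse images -/
noncomputable def toPullStalk (f : X ⟶ Y) (F : Sheaf Y.smallEtaleTopology A) {Ω : Type u} [Field Ω]
    [IsSepClosed Ω] (ζ : Spec (CommRingCat.of Ω) ⟶ X) (ξ : Spec (CommRingCat.of Ω) ⟶ Y) (hξ : ζ ≫ f = ξ)
    (p : ToType ((Scheme.pointSmallEtale ξ).sheafFiber.obj F)) :
    ToType ((Scheme.pointSmallEtale ζ).sheafFiber.obj ((EtFound.pullA A f).obj F)) := by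
  subst hξ
  exact (EtFound.sheafFiberPullIso f ζ).inv.app F p

variable (f : X ⟶ Y) (F : Sheaf Y.smallEtaleTopology A) {Ω : Type u} [Field Ω] [IsSepClosed Ω]
  (ζ : Spec (CommRingCat.of Ω) ⟶ X) (ξ : Spec (CommRingCat.of Ω) ⟶ Y) (hξ : ζ ≫ f = ξ)

theorem toPullStalk_injective : Function.Injective (toPullStalk f F ζ ξ hξ) := by
  subst hξ
  exact (ConcreteCategory.bijective_of_isIso ((EtFound.sheafFiberPullIso f ζ).app F).inv).1

theorem toPullStalk_surjective : Function.Surjective (toPullStalk f F ζ ξ hξ) := by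
  subst hξ
  exact (ConcreteCategory.bijective_of_isIso ((EtFound.sheafFiberPullIso f ζ).app F).inv).2

theorem germ_pullSect {U : Y.Etale} (s : ToType (F.obj.obj (op U)))
    (c : Spec (CommRingCat.of Ω) ⟶ ((EtCoh.bc f).obj U).left) (hc : c ≫ ((EtCoh.bc f).obj U).hom = ζ)
    (a : Spec (CommRingCat.of Ω) ⟶ U.left) (ha : a ≫ U.hom = ξ) (e : c ≫ pullback.fst U.hom f = a) :
    germ ((EtFound.pullA A f).obj F) (pullSect f F s) ζ c hc = toPullStalk f F ζ ξ hξ (germ F s ξ a ha) := by
  subst hξ
  let t : (Scheme.pointSmallEtale ζ).fiber.obj ((EtCoh.bc f).obj U) := CategoryTheory.Over.homMk c hc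
  have ht : EtFound.bcFiberEquiv f ζ U t = CategoryTheory.Over.homMk a ha :=
    CategoryTheory.Over.OverMorphism.ext e
  have h0 := EtFound.sheafFiberPullIso_germ f ζ F U t
  rw [ht] at h0
  exact ((ConcreteCategory.comp_apply _ _ s).symm.trans
    ((ConcreteCategory.congr_hom h0 s).trans (ConcreteCategory.comp_apply _ _ s))).symm

/-- every element of a stalk of an inverse image is the germ of an inverse image -/
theorem exists_germ_eq (y : ToType ((Scheme.pointSmallEtale ζ).sheafFiber.obj ((EtFound.pullA A f).obj F))) :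
    ∃ (U : Y.Etale) (s : ToType (F.obj.obj (op U))) (a : Spec (CommRingCat.of Ω) ⟶ U.left) (ha : a ≫ U.hom = ξ),
      toPullStalk f F ζ ξ hξ (germ F s ξ a ha) = y := by
  obtain ⟨p, rfl⟩ := toPullStalk_surjective f F ζ ξ hξ y
  obtain ⟨U, v, s, rfl⟩ := (Scheme.pointSmallEtale ξ).toPresheafFiber_jointly_surjective p
  exact ⟨U, s, v.left, CategoryTheory.Over.w v, rfl⟩

end Groth.Agent.H0PBC
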