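import Groth.Agent.H0PBC.Existence
import Groth.Agent.H0PBC.Pull

/-!
# Proper base change in degree zero
-/

set_option autoImplicit false
set_option linter.style.haveILetI false
set_option linter.unusedSectionVars false
set_option backward.isDefEq.respectTransparency false
set_option backward.isDefEq.respectTransparency.types false
universe u

open CategoryTheory CategoryTheory.Limits AlgebraicGeometry TopologicalSpace Opposite

namespace Groth.Agent.H0PBC

open EtFound

variable {X Y X' Y' : Scheme.{u}} {f : X ⟶ Y} {g : Y' ⟶ Y} {f' : X' ⟶ Y'} {g' : X' ⟶ X}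
  {A : Type (u + 2)} [Category.{u + 1} A] [HasColimitsOfSize.{u, u} A] [HasProducts.{u} A]
  [∀ {P Q : Scheme.{u}} (h : P ⟶ Q),
    ((EtCoh.bc h).sheafPushforwardContinuous A Q.smallEtaleTopology P.smallEtaleTopology).IsRightAdjoint]
  {FA : A → A → Type*} {CA : A → Type (u + 1)}
  [∀ M N, FunLike (FA M N) (CA M) (CA N)] [ConcreteCategory.{u + 1} A FA]
  [PreservesFilteredColimitsOfSize.{u, u} (forget A)]
  [∀ Z : Scheme.{u}, Z.smallEtaleTopology.HasSheafCompose (forget A)] [(forget A).ReflectsIsomorphisms]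

/-- near a geometric point, an element of the stalk of a direct image comes from a section upstairs -/
theorem exists_local_germ {Ω : Type u} [Field Ω] [IsAlgClosed Ω] (h : IsPullback g' f' f g)
    (η : Spec (CommRingCat.of Ω) ⟶ Y') (F : Sheaf X.smallEtaleTopology A)
    (ξ₀' : {ξ : Spec (CommRingCat.of Ω) ⟶ X' // ξ ≫ f' = η})
    (q : ToType ((Scheme.pointSmallEtale η).sheafFiber.obj ((pushA A f').obj ((pullA A g').obj F)))) :
    ∃ (U : X.Etale) (s : ToType (F.obj.obj (op U))) (a₀ : Spec (CommRingCat.of Ω) ⟶ U.left)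
      (ha₀ : a₀ ≫ U.hom = (pointsEquiv h η ξ₀').1) (Et : (pullback U.hom (pullback.fst f (η ≫ g))).Opens),
      pullback.lift a₀ (fibreSect f (pointsEquiv h η ξ₀')) (ha₀.trans (pullback.lift_fst _ _ _).symm) default ∈ Et ∧
      ∀ (ξ' : {ξ : Spec (CommRingCat.of Ω) ⟶ X' // ξ ≫ f' = η}) (a : Spec (CommRingCat.of Ω) ⟶ U.left)
        (ha : a ≫ U.hom = (pointsEquiv h η ξ').1),
        pullback.lift a (fibreSect f (pointsEquiv h η ξ')) (ha.trans (pullback.lift_fst _ _ _).symm) default ∈ Et →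
          toPullStalk g' F ξ'.1 (pointsEquiv h η ξ').1 rfl (germ F s (pointsEquiv h η ξ').1 a ha) =
            (pushStalkAt f' ξ'.2).app ((pullA A g').obj F) q := by
  obtain ⟨V', v', s', rfl⟩ := (Scheme.pointSmallEtale η).toPresheafFiber_jointly_surjective q
  let G := (pullA A g').obj F
  obtain ⟨U, s, a₀, ha₀, hs⟩ := exists_germ_eq g' F ξ₀'.1 (pointsEquiv h η ξ₀').1 rfl
    ((pushStalkAt f' ξ₀'.2).app G ((Scheme.pointSmallEtale η).toPresheafFiber V' v' ((pushA A f').obj G).obj s'))
  let Q := prodEt ((EtCoh.bc g').obj U) ((EtCoh.bc f').obj V')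
  let cmp := fibreCompare h η
  have hcmp : (cmp ≫ pullback.fst f' η) ≫ g' = pullback.fst f (η ≫ g) := by
    rw [Category.assoc]
    refine (congrArg (cmp ≫ ·) rfl).trans ?_
    show pullback.lift _ _ _ ≫ pullback.fst f' η ≫ g' = _
    rw [pullback.lift_fst_assoc, h.lift_fst]
  let ΦU := pullback U.hom (pullback.fst f (η ≫ g))
  let χ₁ : ΦU ⟶ ((EtCoh.bc g').obj U).left :=
    pullback.lift (pullback.fst _ _) (pullback.snd _ _ ≫ cmp ≫ pullback.fst f' η) (by
      rw [Category.assoc, hcmp]; exact pullback.condition)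
  let χ₂ : ΦU ⟶ ((EtCoh.bc f').obj V').left := pullback.snd _ _ ≫ cmp ≫ fibreTo f' v'
  have hχ : χ₁ ≫ ((EtCoh.bc g').obj U).hom = χ₂ ≫ ((EtCoh.bc f').obj V').hom := by
    refine (pullback.lift_snd _ _ _).trans (Eq.trans ?_ (Category.assoc _ _ _).symm)
    refine congrArg (pullback.snd U.hom (pullback.fst f (η ≫ g)) ≫ ·) (Eq.trans ?_ (Category.assoc _ _ _).symm)
    exact congrArg (cmp ≫ ·) (pullback.lift_snd _ _ _).symm
  let χ : ΦU ⟶ Q.left := pullback.lift χ₁ χ₂ hχ
  let Et : ΦU.Opens := χ ⁻¹ᵁ agree G (pullSect g' F s) s'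
  have hpt : ∀ (ξ' : {ξ : Spec (CommRingCat.of Ω) ⟶ X' // ξ ≫ f' = η}) (a : Spec (CommRingCat.of Ω) ⟶ U.left)
      (ha : a ≫ U.hom = (pointsEquiv h η ξ').1),
      pullback.lift a (fibreSect f (pointsEquiv h η ξ')) (ha.trans (pullback.lift_fst _ _ _).symm) default ∈ Et ↔
        toPullStalk g' F ξ'.1 (pointsEquiv h η ξ').1 rfl (germ F s (pointsEquiv h η ξ').1 a ha) =
          (pushStalkAt f' ξ'.2).app G ((Scheme.pointSmallEtale η).toPresheafFiber V' v' ((pushA A f').obj G).obj s') := by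
    intro ξ' a ha
    let b₁ : Spec (CommRingCat.of Ω) ⟶ ((EtCoh.bc g').obj U).left := pullback.lift a ξ'.1 ha
    let b₂ : Spec (CommRingCat.of Ω) ⟶ ((EtCoh.bc f').obj V').left := (liftPt f' ξ'.2 v').left
    have hb₁ : b₁ ≫ ((EtCoh.bc g').obj U).hom = ξ'.1 := pullback.lift_snd _ _ _
    have hb₂ : b₂ ≫ ((EtCoh.bc f').obj V').hom = ξ'.1 := CategoryTheory.Over.w (liftPt f' ξ'.2 v')
    let x := pullback.lift a (fibreSect f (pointsEquiv h η ξ')) (ha.trans (pullback.lift_fst _ _ _).symm)
    have hc' : fibreSect f (pointsEquiv h η ξ') ≫ cmp = pullback.lift ξ'.1 (𝟙 _) (ξ'.2.trans (Category.id_comp η).symm) := by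
      refine pullback.hom_ext (h.hom_ext ?_ ?_) ?_
      all_goals simp only [cmp, fibreCompare, Category.assoc]
      · erw [pullback.lift_fst_assoc, h.lift_fst, pullback.lift_fst, pullback.lift_fst_assoc]
        rfl
      · erw [pullback.lift_fst_assoc, h.lift_snd, pullback.lift_snd_assoc, pullback.lift_fst_assoc]
        rw [Category.id_comp, ξ'.2]
      · erw [pullback.lift_snd, pullback.lift_snd, pullback.lift_snd]
    have e : x ≫ χ = pullback.lift b₁ b₂ (hb₁.trans hb₂.symm) := by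
      refine pullback.hom_ext ?_ ?_
      · refine (Category.assoc _ _ _).trans (Eq.trans (congrArg (x ≫ ·) (pullback.lift_fst _ _ _)) ?_)
        refine Eq.trans ?_ (pullback.lift_fst _ _ _).symm
        refine pullback.hom_ext ?_ ?_
        · rw [Category.assoc, pullback.lift_fst, pullback.lift_fst, pullback.lift_fst]
        · rw [Category.assoc, pullback.lift_snd, pullback.lift_snd_assoc, pullback.lift_snd, reassoc_of% hc',
            pullback.lift_fst]
      · refine (Category.assoc _ _ _).trans (Eq.trans (congrArg (x ≫ ·) (pullback.lift_snd _ _ _)) ?_)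
        refine Eq.trans ?_ (pullback.lift_snd _ _ _).symm
        rw [pullback.lift_snd_assoc, reassoc_of% hc']
        refine pullback.hom_ext ?_ ?_
        · rw [Category.assoc]
          refine (congrArg (_ ≫ ·) (pullback.lift_fst _ _ _)).trans ?_
          rw [pullback.lift_snd_assoc, Category.id_comp]
          exact (liftPt_fst f' ξ'.2 v').symm
        · rw [Category.assoc]
          refine (congrArg (_ ≫ ·) (pullback.lift_snd _ _ _)).trans ?_
          rw [pullback.lift_fst]
          exact hb₂.symm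
    have hmem : x default ∈ Et ↔ pullback.lift b₁ b₂ (hb₁.trans hb₂.symm) default ∈ agree G (pullSect g' F s) s' := by
      show χ (x default) ∈ agree G (pullSect g' F s) s' ↔ _
      exact iff_of_eq (congrArg (· ∈ agree G (pullSect g' F s) s')
        ((Scheme.Hom.comp_apply x χ default).symm.trans
          (congrArg (fun k : Spec (CommRingCat.of Ω) ⟶ Q.left => k default) e)))
    refine hmem.trans ((mem_agree_iff G (pullSect g' F s) s' ξ'.1 b₁ hb₁ b₂ hb₂).trans ?_)
    rw [germ_pullSect g' F ξ'.1 (pointsEquiv h η ξ').1 rfl s b₁ hb₁ a ha (pullback.lift_fst _ _ _),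
      pushStalkAt_germ_apply f' ξ'.2 G v' s']
    exact Iff.rfl
  exact ⟨U, s, a₀, ha₀, Et, (hpt ξ₀' a₀ ha₀).2 hs, fun ξ' a ha => (hpt ξ' a ha).1⟩

include FA CA in
/-- base change along proper morphisms -/
theorem isIso_baseChange_of_proper (h : IsPullback g' f' f g) [IsProper f] (F : Sheaf X.smallEtaleTopology A)
    (β : (pullA A g).obj ((pushA A f).obj F) ⟶ (pushA A f').obj ((pullA A g').obj F))
    (hβ : ∀ V : Y.Etale,
      (((EtCoh.bc g).sheafAdjunctionContinuous A Y.smallEtaleTopology Y'.smallEtaleTopology).unit.app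
          ((pushA A f).obj F)).hom.app (op V) ≫ β.hom.app (op ((EtCoh.bc g).obj V)) =
        (((EtCoh.bc g').sheafAdjunctionContinuous A X.smallEtaleTopology X'.smallEtaleTopology).unit.app F).hom.app
          (op ((EtCoh.bc f).obj V)) ≫ ((pullA A g').obj F).obj.map (bcSquare h.w V).op) : IsIso β := by
  have : IsProper f' := MorphismProperty.of_isPullback h ‹IsProper f›
  refine isIso_of_stalks β fun Ω₀ _ _ η₀ => ?_
  let Ω := AlgebraicClosure Ω₀
  let l : Spec (CommRingCat.of Ω) ⟶ Spec (CommRingCat.of Ω₀) :=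
    Spec.map (CommRingCat.ofHom (algebraMap Ω₀ Ω))
  let η := l ≫ η₀
  let E := pointsEquiv h η
  let i := (sheafFiberPullIso g η).app ((pushA A f).obj F)
  let j := fun ξ : {ξ : Spec (CommRingCat.of Ω) ⟶ X' // ξ ≫ f' = η} => (sheafFiberPullIso g' ξ.1).app F
  have hb : ∀ {M N : A} (e : M ≅ N), Function.Bijective e.hom := fun e =>
    (ConcreteCategory.isIso_iff_bijective e.hom).1 inferInstance
  let T := (Equiv.piCongrLeft' (fun ξ => ToType ((Scheme.pointSmallEtale ξ.1).sheafFiber.obj F)) E.symm).trans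
    (Equiv.piCongrRight fun ξ : {ξ : Spec (CommRingCat.of Ω) ⟶ X' // ξ ≫ f' = η} =>
      Equiv.ofBijective _ (hb (j ξ).symm))
  have key : ∀ p (ξ' : {ξ : Spec (CommRingCat.of Ω) ⟶ X' // ξ ≫ f' = η}),
      (pushStalkAt f' ξ'.2).app ((pullA A g').obj F) ((Scheme.pointSmallEtale η).sheafFiber.map β (i.inv p)) =
        (j ξ').inv ((pushStalkAt f (E ξ').2).app F p) := fun p ξ' =>
    ((ConcreteCategory.comp_apply _ _ _).trans (ConcreteCategory.comp_apply _ _ _)).symm.trans
      ((ConcreteCategory.congr_hom (baseChange_stalk f g f' g' h.w F β hβ ξ'.2 (E ξ').2) p).trans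
        (ConcreteCategory.comp_apply _ _ _))
  have hinj : Function.Injective ((Scheme.pointSmallEtale η).sheafFiber.map β) := by
    intro p₁ p₂ e
    obtain ⟨q₁, rfl⟩ := (hb i.symm).2 p₁
    obtain ⟨q₂, rfl⟩ := (hb i.symm).2 p₂
    refine congrArg _ (pushStalkAt_injective_proper f F (T.injective (funext fun ξ' => ?_)))
    exact (key q₁ ξ').symm.trans ((congrArg _ e).trans (key q₂ ξ'))
  have hsurj : Function.Surjective ((Scheme.pointSmallEtale η).sheafFiber.map β) := by
    intro q
    let c := T.symm fun ξ' => (pushStalkAt f' ξ'.2).app ((pullA A g').obj F) q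
    have hc : ∀ ξ', (j ξ').inv (c (E ξ')) = (pushStalkAt f' ξ'.2).app ((pullA A g').obj F) q := fun ξ' =>
      congrFun (T.apply_symm_apply _) ξ'
    suffices hp : ∃ p, ∀ ξ, (pushStalkAt f ξ.2).app F p = c ξ by
      obtain ⟨p, hp⟩ := hp
      refine ⟨i.inv p, pushStalkAt_injective_proper f' _ (funext fun ξ' => ?_)⟩
      exact (key p ξ').trans ((congrArg _ (hp (E ξ'))).trans (hc ξ'))
    refine exists_preimage_proper f F c fun ξ₀ => ?_
    obtain ⟨ξ₀', rfl⟩ := E.surjective ξ₀
    obtain ⟨U, s, a₀, ha₀, Et, hmem, hEt⟩ := exists_local_germ h η F ξ₀' q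
    refine ⟨U, a₀, ha₀, s, Et, hmem, fun ξ a ha hm => ?_⟩
    obtain ⟨ξ', rfl⟩ := E.surjective ξ
    exact (hb (j ξ').symm).1 ((hEt ξ' a ha hm).trans (hc ξ').symm)
  have : IsIso ((Scheme.pointSmallEtale η).sheafFiber.map β) :=
    (ConcreteCategory.isIso_iff_bijective _).2 ⟨hinj, hsurj⟩
  have := (NatIso.isIso_map_iff (stalkExtIso A η₀ l) β).2 this
  exact (ConcreteCategory.isIso_iff_bijective ((Scheme.pointSmallEtale η₀).sheafFiber.map β)).1 this

end Groth.Agent.H0PBC
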