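import Groth.Agent.H0PBC.BaseChange
import Groth.Agent.BigSiteLib.FinitePushIso

/-!
# Proper direct images of sheaves of sets commute with pullback to the big etale sites
-/

set_option autoImplicit false

universe v' u' u

open CategoryTheory CategoryTheory.Limits AlgebraicGeometry Opposite

namespace Groth.Agent.H0PBC.BigSets

open Groth.Agent.BigSiteLib (bcIso bcSmallIso bcProj)

/-- inverse image of sheaves of sets on small etale sites -/
noncomputable abbrev pullS {S T : Scheme.{u}} (f : T ⟶ S) :=
  (EtCoh.bc f).sheafPullback (Type (u + 1)) S.smallEtaleTopology T.smallEtaleTopology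

/-- direct image of sheaves of sets on small etale sites -/
noncomputable abbrev pushS {S T : Scheme.{u}} (f : T ⟶ S) :=
  (EtCoh.bc f).sheafPushforwardContinuous (Type (u + 1)) S.smallEtaleTopology T.smallEtaleTopology

/-- their adjunction -/
noncomputable abbrev adjS {S T : Scheme.{u}} (f : T ⟶ S) : pullS f ⊣ pushS f :=
  (EtCoh.bc f).sheafAdjunctionContinuous (Type (u + 1)) S.smallEtaleTopology T.smallEtaleTopology

/-- pullback to the big etale site -/
noncomputable abbrev piS (S : Scheme.{u}) :=
  (EtFppf.a S).sheafPullback (Type (u + 1)) S.smallEtaleTopology (QuotSh.J Scheme.etalePrecoverage S)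

/-- restriction to the small etale site -/
noncomputable abbrev resS (S : Scheme.{u}) :=
  (EtFppf.a S).sheafPushforwardContinuous (Type (u + 1)) S.smallEtaleTopology (QuotSh.J Scheme.etalePrecoverage S)

/-- their adjunction -/
noncomputable abbrev piAdjS (S : Scheme.{u}) : piS S ⊣ resS S :=
  (EtFppf.a S).sheafAdjunctionContinuous (Type (u + 1)) S.smallEtaleTopology (QuotSh.J Scheme.etalePrecoverage S)

/-- restriction along a morphism -/
noncomputable abbrev resAlongS {S T : Scheme.{u}} (g : T ⟶ S) :=
  BigSite.pullBig Scheme.etalePrecoverage g (Type (u + 1)) ⋙ resS T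

section

variable {S T : Scheme.{u}} (f : T ⟶ S)

set_option backward.isDefEq.respectTransparency.types false in
/-- Small and big direct images. -/
noncomputable def pushResIso : BigSite.pushBig Scheme.etalePrecoverage f (Type (u + 1)) ⋙ resS S ≅
    resS T ⋙ pushS f :=
  haveI : (EtFppf.a S ⋙ Over.pullback f).IsContinuous S.smallEtaleTopology (QuotSh.J Scheme.etalePrecoverage T) :=
    Functor.isContinuous_comp _ _ _ (QuotSh.J Scheme.etalePrecoverage S) _
  haveI : (EtCoh.bc f ⋙ EtFppf.a T).IsContinuous S.smallEtaleTopology (QuotSh.J Scheme.etalePrecoverage T) :=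
    Functor.isContinuous_comp _ _ _ T.smallEtaleTopology _
  Functor.sheafPushforwardContinuousComp (EtFppf.a S) (Over.pullback f) (Type (u + 1))
      S.smallEtaleTopology (QuotSh.J Scheme.etalePrecoverage S) (QuotSh.J Scheme.etalePrecoverage T) ≪≫
    Functor.sheafPushforwardContinuousIso
      (F := EtFppf.a S ⋙ Over.pullback f) (F' := EtCoh.bc f ⋙ EtFppf.a T)
      (MorphismProperty.Over.pullbackCompForgetIso (P := EtCoh.etaleMP.{u}) (Q := ⊤) f).symm (Type (u + 1)) _ _ ≪≫
    (Functor.sheafPushforwardContinuousComp (EtCoh.bc f) (EtFppf.a T) (Type (u + 1))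
      S.smallEtaleTopology T.smallEtaleTopology (QuotSh.J Scheme.etalePrecoverage T)).symm

/-- Pullback from the small site commutes with localization. -/
noncomputable def piPullIso : pullS f ⋙ piS T ≅
    piS S ⋙ BigSite.pullBig Scheme.etalePrecoverage f (Type (u + 1)) :=
  Adjunction.leftAdjointUniq
    (((adjS f).comp (piAdjS T)).ofNatIsoRight (pushResIso f).symm)
    ((piAdjS S).comp (BigSite.bigAdj Scheme.etalePrecoverage f (Type (u + 1))))

/-- Pullback from the small site, restricted along a morphism. -/
noncomputable def resAlongPiPullIso (F : EtDesc.Sh S) :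
    (pullS f).obj F ≅ (resAlongS f).obj ((piS S).obj F) :=
  haveI := Groth.Agent.BigSiteLib.isIso_unit_types T ((pullS f).obj F)
  asIso ((piAdjS T).unit.app ((pullS f).obj F)) ≪≫
    (resS T).mapIso ((piPullIso f).app F)

variable {S' T' : Scheme.{u}} {g : S' ⟶ S} {g' : T' ⟶ T} {f' : T' ⟶ S'}

set_option backward.isDefEq.respectTransparency.types false in
/-- Base change of big direct images, restricted to small sites. -/
noncomputable def resAlongPushIso (hsq : IsPullback g' f' f g) :
    BigSite.pushBig Scheme.etalePrecoverage f (Type (u + 1)) ⋙ resAlongS g ≅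
      resAlongS g' ⋙ pushS f' :=
  haveI : (EtFppf.a S' ⋙ Over.map g).IsContinuous S'.smallEtaleTopology (QuotSh.J Scheme.etalePrecoverage S) :=
    Functor.isContinuous_comp _ _ _ (QuotSh.J Scheme.etalePrecoverage S') _
  haveI : (EtFppf.a T' ⋙ Over.map g').IsContinuous T'.smallEtaleTopology (QuotSh.J Scheme.etalePrecoverage T) :=
    Functor.isContinuous_comp _ _ _ (QuotSh.J Scheme.etalePrecoverage T') _
  haveI : ((EtFppf.a S' ⋙ Over.map g) ⋙ Over.pullback f).IsContinuous S'.smallEtaleTopology (QuotSh.J Scheme.etalePrecoverage T) :=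
    Functor.isContinuous_comp _ _ _ (QuotSh.J Scheme.etalePrecoverage S) _
  haveI : (EtCoh.bc f' ⋙ EtFppf.a T' ⋙ Over.map g').IsContinuous S'.smallEtaleTopology (QuotSh.J Scheme.etalePrecoverage T) :=
    Functor.isContinuous_comp _ _ _ T'.smallEtaleTopology _
  Functor.sheafPushforwardContinuousComp (EtFppf.a S' ⋙ Over.map g) (Over.pullback f) (Type (u + 1))
      S'.smallEtaleTopology (QuotSh.J Scheme.etalePrecoverage S) (QuotSh.J Scheme.etalePrecoverage T) ≪≫
    Functor.sheafPushforwardContinuousIso (bcSmallIso f hsq).symm (Type (u + 1)) _ _ ≪≫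
    (Functor.sheafPushforwardContinuousComp (EtCoh.bc f') (EtFppf.a T' ⋙ Over.map g') (Type (u + 1))
      S'.smallEtaleTopology T'.smallEtaleTopology (QuotSh.J Scheme.etalePrecoverage T)).symm

end

section

variable {S T : Scheme.{u}} (g : T ⟶ S)

theorem unit_resAlongPiPullIso (F : EtDesc.Sh S) :
    (adjS g).unit.app F ≫ (pushS g).map (resAlongPiPullIso g F).hom =
      (piAdjS S).unit.app F ≫
        (resS S).map ((BigSite.bigAdj Scheme.etalePrecoverage g (Type (u + 1))).unit.app
          ((piS S).obj F)) ≫
        (pushResIso g).hom.app _ := by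
  let A1 := (adjS g).comp (piAdjS T)
  let A2 := (piAdjS S).comp (BigSite.bigAdj Scheme.etalePrecoverage g (Type (u + 1)))
  have h := Adjunction.unit_leftAdjointUniq_hom_app (A1.ofNatIsoRight (pushResIso g).symm) A2 F
  have h1 : (A1.ofNatIsoRight (pushResIso g).symm).unit.app F = A1.unit.app F ≫ (pushResIso g).inv.app _ := by
    simp [Adjunction.ofNatIsoRight, Adjunction.mkOfHomEquiv, Adjunction.equivHomsetRightOfNatIso, A1, Adjunction.homEquiv_unit]
  rw [h1, Category.assoc] at h
  have h2 : (A1.unit.app F ≫ (resS T ⋙ pushS g).map ((piPullIso g).hom.app F)) ≫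
      (pushResIso g).inv.app _ = A2.unit.app F := by
    rw [Category.assoc, (pushResIso g).inv.naturality]
    exact h
  have h3 := congrArg (· ≫ (pushResIso g).hom.app _) h2
  simp only [Category.assoc, Iso.inv_hom_id_app, Category.comp_id] at h3
  refine Eq.trans ?_ (h3.trans ?_)
  · simp [resAlongPiPullIso, A1, Adjunction.comp_unit_app, Functor.map_comp]
  · simp [A2, Adjunction.comp_unit_app]

set_option backward.isDefEq.respectTransparency.types false in
theorem unit_resAlongPiPullIso_app (F : EtDesc.Sh S) (V : S.Etale) :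
    ((adjS g).unit.app F).hom.app (op V) ≫ (resAlongPiPullIso g F).hom.hom.app (op ((EtCoh.bc g).obj V)) =
      ((piAdjS S).unit.app F).hom.app (op V) ≫
        ((piS S).obj F).obj.map (bcProj g V).op := by
  refine (congr($(unit_resAlongPiPullIso g F).hom.app (op V))).trans ?_
  show ((piAdjS S).unit.app F).hom.app (op V) ≫
    ((piS S).obj F).obj.map ((Over.mapPullbackAdj g).counit.app ((EtFppf.a S).obj V)).op ≫
      ((pushResIso g).hom.app ((BigSite.pullBig Scheme.etalePrecoverage g (Type (u + 1))).obj ((piS S).obj F))).hom.app (op V) = _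
  congr 1
  simp only [pushResIso, Iso.trans_hom, NatTrans.comp_app]
  dsimp [Functor.sheafPushforwardContinuousComp, Functor.sheafPushforwardContinuousIso]
  refine (congrArg (((piS S).obj F).obj.map
    ((Over.mapPullbackAdj g).counit.app ((EtFppf.a S).obj V)).op ≫ ·) ((Category.id_comp _).trans (Category.comp_id _))).trans ?_
  refine (((piS S).obj F).obj.map_comp _ _).symm.trans
    (congrArg ((piS S).obj F).obj.map ?_)
  refine Quiver.Hom.unop_inj (Over.OverMorphism.ext ?_)
  simp [bcProj]
  rfl

end

variable {X Y : Scheme.{u}} (f : X ⟶ Y) (F : EtDesc.Sh X)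

/-- The pullback of the sheaf to the big site. -/
noncomputable abbrev piX : Sheaf (QuotSh.J Scheme.etalePrecoverage X) (Type (u + 1)) := (piS X).obj F

/-- Small direct image into the restriction of the big one. -/
noncomputable def pushToRes : (pushS f).obj F ⟶
    (resS Y).obj ((BigSite.pushBig Scheme.etalePrecoverage f (Type (u + 1))).obj (piX F)) :=
  (pushS f).map ((piAdjS X).unit.app F) ≫ (pushResIso f).inv.app (piX F)

/-- The comparison of the small and big direct images. -/
noncomputable def theta : (piS Y).obj ((pushS f).obj F) ⟶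
    (BigSite.pushBig Scheme.etalePrecoverage f (Type (u + 1))).obj (piX F) :=
  ((piAdjS Y).homEquiv _ _).symm (pushToRes f F)

theorem unit_theta : (piAdjS Y).unit.app ((pushS f).obj F) ≫
    (resS Y).map (theta f F) = pushToRes f F := by
  exact ((Adjunction.homEquiv_unit (piAdjS Y)) _ _ (theta f F)).symm.trans
    (((piAdjS Y).homEquiv _ _).apply_symm_apply (pushToRes f F))

variable {Y' X' : Scheme.{u}} {g : Y' ⟶ Y} {g' : X' ⟶ X} {f' : X' ⟶ Y'}

/-- The comparison along a square, on small sites. -/
noncomputable def smallComp (hsq : IsPullback g' f' f g) :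
    (pullS g).obj ((pushS f).obj F) ⟶ (pushS f').obj ((pullS g').obj F) :=
  (resAlongPiPullIso g ((pushS f).obj F)).hom ≫
    (resAlongS g).map (theta f F) ≫
    (resAlongPushIso f hsq).hom.app (piX F) ≫ (pushS f').map (resAlongPiPullIso g' F).inv

set_option backward.isDefEq.respectTransparency.types false in
theorem smallComp_unit (hsq : IsPullback g' f' f g) (V : Y.Etale) :
    ((adjS g).unit.app ((pushS f).obj F)).hom.app (op V) ≫
        (smallComp f F hsq).hom.app (op ((EtCoh.bc g).obj V)) =
      ((adjS g').unit.app F).hom.app (op ((EtCoh.bc f).obj V)) ≫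
        ((pullS g').obj F).obj.map (EtFound.bcSquare hsq.w V).op := by
  let W := (EtCoh.bc g).obj V
  let G := (BigSite.pushBig Scheme.etalePrecoverage f (Type (u + 1))).obj (piX F)
  let η := (piAdjS X).unit.app F
  haveI : IsIso ((resAlongPiPullIso g' F).hom.hom.app (op ((EtCoh.bc f').obj W))) :=
    ((((sheafToPresheaf _ _).mapIso (resAlongPiPullIso g' F)).app (op ((EtCoh.bc f').obj W))).isIso_hom)
  refine (cancel_mono ((resAlongPiPullIso g' F).hom.hom.app (op ((EtCoh.bc f').obj W)))).1 ?_
  have e1 := unit_resAlongPiPullIso_app g ((pushS f).obj F) V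
  have e2 : ((piAdjS Y).unit.app ((pushS f).obj F)).hom.app (op V) ≫
      (theta f F).hom.app (op ((EtFppf.a Y).obj V)) = (pushToRes f F).hom.app (op V) :=
    congr($(unit_theta f F).hom.app (op V))
  have e3 := (theta f F).hom.naturality (bcProj g V).op
  have e4 := (resAlongPiPullIso g' F).hom.hom.naturality (EtFound.bcSquare hsq.w V).op
  have e5 := unit_resAlongPiPullIso_app g' F ((EtCoh.bc f).obj V)
  have eL : ((adjS g).unit.app ((pushS f).obj F)).hom.app (op V) ≫
      (resAlongPiPullIso g ((pushS f).obj F)).hom.hom.app (op W) ≫ (theta f F).hom.app _ =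
      (pushToRes f F).hom.app (op V) ≫ G.obj.map (bcProj g V).op := by
    refine (Category.assoc _ _ _).symm.trans ((congrArg (· ≫ _) e1).trans ?_)
    refine (Category.assoc _ _ _).trans ((congrArg (_ ≫ ·) e3).trans ?_)
    exact (Category.assoc _ _ _).symm.trans (congrArg (· ≫ _) e2)
  have eI : (resAlongPiPullIso g' F).inv.hom.app (op ((EtCoh.bc f').obj W)) ≫
      (resAlongPiPullIso g' F).hom.hom.app (op ((EtCoh.bc f').obj W)) = 𝟙 _ :=
    congr($((resAlongPiPullIso g' F).inv_hom_id).hom.app (op ((EtCoh.bc f').obj W)))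
  have eR : (((adjS g').unit.app F).hom.app (op ((EtCoh.bc f).obj V)) ≫
        ((pullS g').obj F).obj.map (EtFound.bcSquare hsq.w V).op) ≫
      (resAlongPiPullIso g' F).hom.hom.app (op ((EtCoh.bc f').obj W)) =
      η.hom.app (op ((EtCoh.bc f).obj V)) ≫ (piX F).obj.map ((Over.map g').map ((EtFppf.a X').map (EtFound.bcSquare hsq.w V)) ≫
        bcProj g' ((EtCoh.bc f).obj V)).op := by
    refine (Category.assoc _ _ _).trans ((congrArg (_ ≫ ·) e4).trans ?_)
    refine (Category.assoc _ _ _).symm.trans ((congrArg (· ≫ _) e5).trans ?_)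
    refine (Category.assoc _ _ _).trans (congrArg (_ ≫ ·) ?_)
    exact ((piX F).obj.map_comp _ _).symm.trans (congrArg (piX F).obj.map (op_comp).symm)
  refine Eq.trans ?_ eR.symm
  show (((adjS g).unit.app ((pushS f).obj F)).hom.app (op V) ≫
      (resAlongPiPullIso g ((pushS f).obj F)).hom.hom.app (op W) ≫ (theta f F).hom.app _ ≫
      ((resAlongPushIso f hsq).hom.app (piX F)).hom.app (op W) ≫
      (resAlongPiPullIso g' F).inv.hom.app (op ((EtCoh.bc f').obj W))) ≫ _ = _
  simp only [Category.assoc]
  refine (congrArg (fun t => _ ≫ _ ≫ _ ≫ t) ((congrArg (_ ≫ ·) eI).trans (Category.comp_id _))).trans ?_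
  refine (congrArg (_ ≫ ·) (Category.assoc _ _ _).symm).trans ?_
  refine (Category.assoc _ _ _).symm.trans ((congrArg (· ≫ _) eL).trans ?_)
  refine (Category.assoc _ _ _).trans ?_
  refine (Category.assoc _ _ _).trans (congrArg (η.hom.app (op ((EtCoh.bc f).obj V)) ≫ ·) ?_)
  simp only [pushResIso, resAlongPushIso, Iso.trans_inv, Iso.trans_hom, NatTrans.comp_app]
  dsimp [Functor.sheafPushforwardContinuousComp, Functor.sheafPushforwardContinuousIso]
  refine (congrArg₂ (· ≫ ·) ((Category.id_comp _).trans (Category.comp_id _))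
    (congrArg (_ ≫ ·) ((Category.id_comp _).trans (Category.comp_id _)))).trans ?_
  refine ((congrArg (_ ≫ ·) ((piX F).obj.map_comp _ _).symm).trans ((piX F).obj.map_comp _ _).symm).trans ?_
  refine congrArg (piX F).obj.map (Quiver.Hom.unop_inj (Over.OverMorphism.ext ?_))
  refine pullback.hom_ext ?_ ?_
  · simp [bcProj, bcSmallIso, bcIso]
    refine Eq.trans ?_ ((Category.assoc _ _ _).trans (EtFound.bcSquare_fst hsq.w V)).symm
    refine (Category.assoc _ _ _).trans ?_
    erw [Category.id_comp, Category.assoc, Category.assoc, Category.id_comp, pullback.lift_fst,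
      IsPullback.isoPullback_hom_fst_assoc]
    rfl
  · simp [bcProj, bcSmallIso, bcIso]
    refine Eq.trans ?_ ((Category.assoc _ _ _).trans ((congrArg (_ ≫ ·) pullback.condition).trans
      ((Category.assoc _ _ _).symm.trans (congrArg (· ≫ g') (MorphismProperty.Over.w (EtFound.bcSquare hsq.w V)))))).symm
    refine (Category.assoc _ _ _).trans ?_
    erw [Category.id_comp, Category.assoc, Category.assoc, Category.id_comp, pullback.lift_snd,
      IsPullback.isoPullback_hom_snd]
    rfl

end Groth.Agent.H0PBC.BigSets
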