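import Groth.Agent.H0PBC.BigSets

/-!
# The isomorphism of functors for proper direct images of sheaves of sets
-/

set_option autoImplicit false
set_option backward.isDefEq.respectTransparency.types false

universe u

open CategoryTheory CategoryTheory.Limits AlgebraicGeometry Opposite

namespace Groth.Agent.H0PBC.BigSets

theorem isIso_of_resAlongS {S : Scheme.{u}} {G G' : Sheaf (QuotSh.J Scheme.etalePrecoverage S) (Type (u + 1))} (φ : G ⟶ G')
    (h : ∀ {T : Scheme.{u}} (g : T ⟶ S), IsIso ((resAlongS g).map φ)) : IsIso φ := by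
  haveI : ∀ W, IsIso (φ.hom.app W) := fun W => by
    haveI := h W.unop.hom
    haveI h0 : IsIso (((resAlongS W.unop.hom).map φ).hom.app (op (EtCoh.top W.unop.left))) :=
      inferInstanceAs (IsIso (((sheafToPresheaf _ _).map ((resAlongS W.unop.hom).map φ)).app _))
    let W0 : Over S := (Over.map W.unop.hom).obj ((EtFppf.a W.unop.left).obj (EtCoh.top W.unop.left))
    haveI h1 : IsIso (φ.hom.app (op W0)) := h0
    let e : W0 ≅ W.unop := Over.isoMk (Iso.refl _) ((Category.id_comp _).trans (Category.id_comp _).symm)
    have he : φ.hom.app W = G.obj.map e.hom.op ≫ φ.hom.app (op W0) ≫ G'.obj.map e.inv.op := by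
      rw [← Category.assoc, φ.hom.naturality, Category.assoc, ← Functor.map_comp, ← op_comp, e.inv_hom_id, op_id,
        CategoryTheory.Functor.map_id, Category.comp_id]
    rw [he]
    infer_instance
  haveI : IsIso ((sheafToPresheaf _ _).map φ) := NatIso.isIso_of_isIso_app φ.hom
  exact isIso_of_reflects_iso φ (sheafToPresheaf _ _)

variable {X Y : Scheme.{u}} (f : X ⟶ Y)

theorem isIso_theta [IsProper f] (F : EtDesc.Sh X) : IsIso (theta f F) := by
  refine isIso_of_resAlongS _ fun {Y'} g => ?_
  have hsq := IsPullback.of_hasPullback f g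
  haveI hβ : IsIso (smallComp f F hsq) :=
    Groth.Agent.H0PBC.isIso_baseChange_of_proper (A := Type (u + 1)) hsq F _ (smallComp_unit f F hsq)
  have e : (resAlongS g).map (theta f F) =
      (resAlongPiPullIso g ((pushS f).obj F)).inv ≫ smallComp f F hsq ≫
        (pushS (pullback.snd f g)).map (resAlongPiPullIso (pullback.fst f g) F).hom ≫
        (resAlongPushIso f hsq).inv.app (piX F) := by
    simp only [smallComp, Category.assoc, Iso.inv_hom_id_assoc]
    rw [← Functor.map_comp_assoc, Iso.inv_hom_id, CategoryTheory.Functor.map_id, Category.id_comp, Iso.hom_inv_id_app]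
    exact (Category.comp_id _).symm
  rw [e]
  infer_instance

theorem pushToRes_naturality {F F' : EtDesc.Sh X} (φ : F ⟶ F') :
    (pushS f).map φ ≫ pushToRes f F' = pushToRes f F ≫
      (resS Y).map ((BigSite.pushBig Scheme.etalePrecoverage f (Type (u + 1))).map ((piS X).map φ)) := by
  have h1 : φ ≫ (piAdjS X).unit.app F' = (piAdjS X).unit.app F ≫ (resS X).map ((piS X).map φ) :=
    (piAdjS X).unit.naturality φ
  have h2 := (pushResIso f).inv.naturality ((piS X).map φ)
  simp only [pushToRes, Category.assoc]
  refine ((Functor.map_comp_assoc _ _ _ _).symm.trans (congrArg (fun t => (pushS f).map t ≫ _) h1)).trans ?_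
  exact (Functor.map_comp_assoc _ _ _ _).trans (congrArg (_ ≫ ·) h2)

/-- the comparison of small and big direct images, as an isomorphism of functors -/
noncomputable def thetaIso [IsProper f] :
    pushS f ⋙ piS Y ≅ piS X ⋙ BigSite.pushBig Scheme.etalePrecoverage f (Type (u + 1)) :=
  NatIso.ofComponents (fun F => @asIso _ _ _ _ (theta f F) (isIso_theta f F)) fun {F F'} φ => by
    show (piS Y).map ((pushS f).map φ) ≫ theta f F' =
      theta f F ≫ (BigSite.pushBig Scheme.etalePrecoverage f (Type (u + 1))).map ((piS X).map φ)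
    rw [theta, theta, ← Adjunction.homEquiv_naturality_left_symm, ← Adjunction.homEquiv_naturality_right_symm]
    exact congrArg _ (pushToRes_naturality f φ)

end Groth.Agent.H0PBC.BigSets
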