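import Groth.Agent.Graft.GenLift
import Groth.Agent.HensCouple7.ProperPair
import Mathlib.AlgebraicGeometry.ValuativeCriterion
import Mathlib.RingTheory.Henselian
import Mathlib.FieldTheory.IsAlgClosed.Basic
import Mathlib.RingTheory.Valuation.Integral

/-!
# Valuation rings of algebraically closed fields, connected closed parts
-/

set_option autoImplicit false
set_option linter.style.haveILetI false
set_option backward.isDefEq.respectTransparency false
set_option backward.isDefEq.respectTransparency.types false
universe u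

open CategoryTheory CategoryTheory.Limits AlgebraicGeometry TopologicalSpace Polynomial IsLocalRing

namespace Groth.Agent.H0PBC

variable {Ω : Type u} [Field Ω] [IsAlgClosed Ω] (A : ValuationSubring Ω)

theorem exists_root_valuationSubring (f : A[X]) (hf : f.Monic) (hd : 0 < f.natDegree) :
    ∃ r : A, f.IsRoot r := by
  obtain ⟨r, hr⟩ := IsAlgClosed.exists_aeval_eq_zero Ω f fun h =>
      hd.ne' (Polynomial.natDegree_eq_of_degree_eq_some h)
  obtain ⟨a, rfl⟩ := IsIntegrallyClosed.isIntegral_iff.1 (⟨f, hf, hr⟩ : IsIntegral A r)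
  refine ⟨a, FaithfulSMul.algebraMap_injective A Ω ?_⟩
  rw [map_zero, ← aeval_algebraMap_apply_eq_algebraMap_eval]
  exact hr

theorem exists_root_near (a₀ : A) : ∀ (n : ℕ) (f : A[X]), f.natDegree = n → f.Monic →
    f.eval a₀ ∈ maximalIdeal A → ∃ a, f.IsRoot a ∧ a - a₀ ∈ maximalIdeal A := by
  intro n
  induction n with
  | zero =>
    intro f hn hf h
    rw [hf.natDegree_eq_zero.1 hn, eval_one] at h
    exact absurd h (Ideal.ne_top_iff_one _ |>.1 (maximalIdeal.isMaximal A).ne_top)
  | succ n ih =>
    intro f hn hf h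
    obtain ⟨r, hr⟩ := exists_root_valuationSubring A f hf (by omega)
    have hd := mul_divByMonic_eq_iff_isRoot.2 hr
    rw [← hd, eval_mul, eval_sub, eval_X, eval_C] at h
    rcases (maximalIdeal.isMaximal A).isPrime.mem_or_mem h with h | h
    · exact ⟨r, hr, by rw [← neg_sub]; exact Submodule.neg_mem _ h⟩
    · obtain ⟨a, ha, ha'⟩ := ih _ (by
        rw [natDegree_divByMonic f (monic_X_sub_C r), natDegree_X_sub_C]; omega)
        ((monic_X_sub_C r).of_mul_monic_left (hd.symm ▸ hf)) h
      exact ⟨a, by rw [IsRoot, ← hd, eval_mul, ha.eq_zero, mul_zero], ha'⟩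

/-- valuation rings of algebraically closed fields are henselian -/
theorem henselianLocalRing_valuationSubring : HenselianLocalRing A where
  is_henselian f hf a₀ h _ := exists_root_near A a₀ _ f rfl hf h

/-- their residue fields are algebraically closed -/
theorem isAlgClosed_residueField : IsAlgClosed (ResidueField A) := by
  refine IsAlgClosed.of_exists_root _ fun p hp hirr => ?_
  obtain ⟨F, hF, hFd, hFm⟩ := lifts_and_natDegree_eq_and_monic
    ((mem_lifts p).2 (map_surjective _ residue_surjective p)) hp
  obtain ⟨r, hr⟩ := exists_root_valuationSubring A F hFm (by rw [hFd]; exact hirr.natDegree_pos)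
  refine ⟨residue A r, ?_⟩
  rw [← hF, eval_map_apply, hr.eq_zero, map_zero]

omit [IsAlgClosed Ω] in
theorem isDominant_generic :
    IsDominant (Spec.map (CommRingCat.ofHom (algebraMap A Ω))) := by
  refine ⟨(PrimeSpectrum.denseRange_comap_iff_ker_le_nilRadical _).2 ?_⟩
  refine le_of_eq_of_le ((RingHom.injective_iff_ker_eq_bot _).1 ?_) bot_le
  exact FaithfulSMul.algebraMap_injective A Ω

/-- A specialisation of a point with values in a field is realised by a valuation ring. -/
theorem exists_valuation_specialization {Ω : Type u} [Field Ω] {T : Scheme.{u}}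
    (t : Spec (CommRingCat.of Ω) ⟶ T) {y : T} (h : t (closedPoint Ω) ⤳ y) :
    ∃ (A : ValuationSubring Ω) (ρ : Spec (CommRingCat.of A) ⟶ T),
      Spec.map (CommRingCat.ofHom (algebraMap A Ω)) ≫ ρ = t ∧ ρ (closedPoint A) = y := by
  let φ : T.presheaf.stalk y ⟶ CommRingCat.of Ω :=
    T.presheaf.stalkSpecializes h ≫ Scheme.stalkClosedPointTo t
  obtain ⟨A, hA, hA'⟩ := IsLocalRing.exists_factor_valuationRing φ.hom
  let ψ : T.presheaf.stalk y ⟶ CommRingCat.of A := CommRingCat.ofHom (φ.hom.codRestrict A.toSubring hA)
  refine ⟨A, Spec.map ψ ≫ T.fromSpecStalk y, ?_, ?_⟩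
  · have e : ψ ≫ CommRingCat.ofHom (algebraMap A Ω) = φ := rfl
    rw [← Spec.map_comp_assoc, e, Spec.map_comp, Category.assoc,
      Scheme.SpecMap_stalkSpecializes_fromSpecStalk]
    exact Scheme.Spec_stalkClosedPointTo_fromSpecStalk t
  · rw [Scheme.Hom.comp_apply]
    have : Spec.map ψ (closedPoint A) = closedPoint (T.presheaf.stalk y) :=
      comap_closedPoint (S := A) (φ.hom.codRestrict A.toSubring hA)
    rw [this, T.fromSpecStalk_closedPoint]

/-- A closed irreducible piece of a scheme proper over a henselian pair meets the closed part in a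
connected set. -/
theorem isConnected_closure_inter {R : Type u} [CommRing R] (I : Ideal R) [HenselianRing R I] {T : Scheme.{u}}
    (f : T ⟶ Spec (CommRingCat.of R)) [IsProper f] (x : T) :
    IsConnected (closure {x} ∩ f ⁻¹' PrimeSpectrum.zeroLocus (I : Set R)) := by
  let W : Scheme.{u} := (Scheme.IdealSheafData.vanishingIdeal ⟨closure {x}, isClosed_closure⟩).subscheme
  let w : W ⟶ T := (Scheme.IdealSheafData.vanishingIdeal ⟨closure {x}, isClosed_closure⟩).subschemeι
  have hw : Set.range w = closure {x} := by
    rw [Scheme.IdealSheafData.range_subschemeι, Scheme.IdealSheafData.coe_support_vanishingIdeal]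
    simp
  haveI : PreconnectedSpace W := ⟨(by
    rw [← w.isEmbedding.isInducing.isPreconnected_image, Set.image_univ, hw]
    exact (isIrreducible_singleton.closure).isConnected.isPreconnected)⟩
  have hL := Graft.lifts_proper_pair I (w ≫ f)
  let Z : Set W := (w ≫ f) ⁻¹' PrimeSpectrum.zeroLocus (I : Set R)
  obtain ⟨y, hy⟩ : x ∈ Set.range w := hw ▸ subset_closure rfl
  have hZne : Nonempty Z := by
    by_contra h
    haveI := not_nonempty_iff.1 h
    have := ExistsUnique.unique (hL ∅ isClopen_empty)
      (y₁ := Set.univ) ⟨isClopen_univ, Set.eq_empty_of_forall_notMem fun z => isEmptyElim z⟩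
      (y₂ := ∅) ⟨isClopen_empty, Set.preimage_empty⟩
    exact Set.eq_empty_iff_forall_notMem.1 this y trivial
  haveI : PreconnectedSpace Z := preconnectedSpace_iff_clopen.2 fun V hV => by
    obtain ⟨U, ⟨hU, hUV⟩, -⟩ := hL V hV
    rcases isClopen_iff.1 hU with rfl | rfl
    · exact .inl (hUV.symm.trans Set.preimage_empty)
    · exact .inr (hUV.symm.trans Set.preimage_univ)
  haveI : ConnectedSpace Z := { toNonempty := hZne }
  have e : closure {x} ∩ f ⁻¹' PrimeSpectrum.zeroLocus (I : Set R) =
      Set.range (w ∘ (Subtype.val : Z → W)) := by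
    rw [Set.range_comp, Subtype.range_coe]
    rw [show Z = w ⁻¹' (f ⁻¹' PrimeSpectrum.zeroLocus (I : Set R)) from Set.ext fun z => Iff.rfl,
      Set.image_preimage_eq_inter_range, hw, Set.inter_comm]
  rw [e]
  exact isConnected_range (w.continuous.comp continuous_subtype_val)

end Groth.Agent.H0PBC
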