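import Groth.Agent.H0PBC.Lifts
import Groth.Agent.Graft.SpecRestrict

/-!
# Compatible local data near a closed set with connected closed parts
-/

set_option autoImplicit false
set_option linter.style.haveILetI false
set_option linter.unusedSectionVars false
set_option backward.isDefEq.respectTransparency false
set_option backward.isDefEq.respectTransparency.types false
universe u

open CategoryTheory CategoryTheory.Limits AlgebraicGeometry TopologicalSpace IsLocalRing Topology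

namespace Groth.Agent.H0PBC

variable {P : Scheme.{u}} {ι : Type u} {U : ι → Scheme.{u}} (u : ∀ i, U i ⟶ P)
  (E : ∀ i j, (pullback (u i) (u j)).Opens)

/-- two points with values in a field above the same one lie in `E` -/
def Rel {Ω : Type u} [Field Ω] (i j : ι) (a : Spec (CommRingCat.of Ω) ⟶ U i) (b : Spec (CommRingCat.of Ω) ⟶ U j) :
    Prop :=
  ∃ h : a ≫ u i = b ≫ u j, pullback.lift a b h default ∈ E i j

/-- `E` is an equivalence relation on geometric points -/
structure IsEquivRel : Prop where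
  refl : ∀ (i : ι) (Ω : Type u) [Field Ω] [IsAlgClosed Ω] (a : Spec (CommRingCat.of Ω) ⟶ U i), Rel u E i i a a
  symm : ∀ (i j : ι) (Ω : Type u) [Field Ω] [IsAlgClosed Ω] (a : Spec (CommRingCat.of Ω) ⟶ U i)
    (b : Spec (CommRingCat.of Ω) ⟶ U j), Rel u E i j a b → Rel u E j i b a
  trans : ∀ (i j k : ι) (Ω : Type u) [Field Ω] [IsAlgClosed Ω] (a : Spec (CommRingCat.of Ω) ⟶ U i)
    (b : Spec (CommRingCat.of Ω) ⟶ U j) (c : Spec (CommRingCat.of Ω) ⟶ U k),
    Rel u E i j a b → Rel u E j k b c → Rel u E i k a c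

/-- closures of points of finite schemes meet the preimage of `Zs` in connected sets -/
def HasConnectedParts (Zs : Set P) : Prop :=
  ∀ (T : Scheme.{u}) (g : T ⟶ P), IsFinite g → ∀ η : T, _root_.IsConnected (closure {η} ∩ g ⁻¹' Zs)

variable {u E}

theorem exists_specializes {Zs : Set P} (hconn : HasConnectedParts Zs) (x : P) : ∃ z ∈ Zs, x ⤳ z := by
  obtain ⟨z, hz, hz'⟩ := (hconn P (𝟙 P) inferInstance x).nonempty
  exact ⟨z, by simpa using hz', specializes_iff_mem_closure.2 hz⟩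

/-- geometric points specialising into `Zs` are related -/
theorem rel_of_specializes [CompactSpace P] [QuasiSeparatedSpace P] [Finite ι] [∀ i, IsAffine (U i)]
    [∀ i, Etale (u i)] [∀ i, IsSeparated (u i)] [∀ i, QuasiCompact (u i)]
    (hE : IsEquivRel u E) {Zs : Set P} (hconn : HasConnectedParts Zs)
    (hcov : ∀ z ∈ Zs, ∃ (i : ι) (q : U i), u i q = z)
    (hZE : ∀ i j (w : ↥(pullback (u i) (u j))), u i (pullback.fst (u i) (u j) w) ∈ Zs → w ∈ E i j)
    {Ω : Type u} [Field Ω] [IsAlgClosed Ω] {i j : ι} (a : Spec (CommRingCat.of Ω) ⟶ U i)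
    (b : Spec (CommRingCat.of Ω) ⟶ U j) (h : a ≫ u i = b ≫ u j)
    (ha : ∃ q, a default ⤳ q ∧ u i q ∈ Zs) (hb : ∃ q, b default ⤳ q ∧ u j q ∈ Zs) :
    Rel u E i j a b := by
  classical
  let x := a ≫ u i
  let L := Σ k, {v : Spec (CommRingCat.of Ω) ⟶ U k // v ≫ u k = x}
  haveI : ∀ k, Finite {v : Spec (CommRingCat.of Ω) ⟶ U k // v ≫ u k = x} := fun k => finite_lifts (u k) x
  choose T J π hJ hJc hπ hJπ using fun k => LocImmLib.exists_openImmersion_finite (u k)
  obtain ⟨T', g, t, p, hg, ht, hp⟩ := exists_finite_family' x (K := L) (fun l => T l.1) (fun l => π l.1)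
    (fun l => l.2.1 ≫ J l.1) (fun l => by rw [Category.assoc, hJπ]; exact l.2.2)
  let η : T' := t default
  let C : Set T' := closure {η} ∩ g ⁻¹' Zs
  let N : L → T'.Opens := fun l => p l ⁻¹ᵁ (J l.1).opensRange
  have hη : ∀ (l : L), η ∈ N l := fun l => by
    show p l (t default) ∈ (J l.1).opensRange
    rw [← Scheme.Hom.comp_apply, (hp l).2, Scheme.Hom.comp_apply]
    exact ⟨_, rfl⟩
  let m : ∀ l, (N l).toScheme ⟶ U l.1 := fun l =>
    IsOpenImmersion.lift (J l.1) ((N l).ι ≫ p l) (by rintro _ ⟨z, rfl⟩; exact z.2)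
  have hm : ∀ l, m l ≫ u l.1 = (N l).ι ≫ g := fun l => by
    rw [← hJπ, ← Category.assoc, IsOpenImmersion.lift_fac, Category.assoc, (hp l).1]
  -- two lifts seen at one point of `C` are related
  have hpair : ∀ (l l' : L) (y : T'), y ∈ C → y ∈ N l → y ∈ N l' → Rel u E l.1 l'.1 l.2.1 l'.2.1 := by
    intro l l' y hy hl hl'
    have h0 : l.2.1 ≫ u l.1 = l'.2.1 ≫ u l'.1 := l.2.2.trans l'.2.2.symm
    refine ⟨h0, ?_⟩
    let M : T'.Opens := N l ⊓ N l'
    let pr : M.toScheme ⟶ pullback (u l.1) (u l'.1) :=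
      pullback.lift (T'.homOfLE inf_le_left ≫ m l) (T'.homOfLE inf_le_right ≫ m l') (by
        rw [Category.assoc, Category.assoc, hm, hm, Scheme.homOfLE_ι_assoc, Scheme.homOfLE_ι_assoc])
    have hyE : pr ⟨y, hl, hl'⟩ ∈ E l.1 l'.1 := hZE _ _ _ (by
      rw [← Scheme.Hom.comp_apply, ← Scheme.Hom.comp_apply, pullback.lift_fst_assoc, Category.assoc, hm,
        Scheme.homOfLE_ι_assoc, Scheme.Hom.comp_apply]
      exact hy.2)
    let tM : Spec (CommRingCat.of Ω) ⟶ M.toScheme := IsOpenImmersion.lift M.ι t (by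
      rintro _ ⟨z, rfl⟩
      rw [Subsingleton.elim z default, Scheme.Opens.range_ι]
      exact ⟨hη l, hη l'⟩)
    have htM : tM ≫ M.ι = t := IsOpenImmersion.lift_fac _ _ _
    have e : tM ≫ pr = pullback.lift l.2.1 l'.2.1 h0 := by
      have hl : ∀ (l₁ : L) (hle : M ≤ N l₁), (tM ≫ T'.homOfLE hle) ≫ m l₁ = l₁.2.1 := fun l₁ hle => by
        rw [← cancel_mono (J l₁.1), Category.assoc, IsOpenImmersion.lift_fac, Category.assoc,
          Scheme.homOfLE_ι_assoc, reassoc_of% htM]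
        exact (hp l₁).2
      refine pullback.hom_ext ?_ ?_
      · rw [Category.assoc, pullback.lift_fst, pullback.lift_fst, ← Category.assoc]
        exact hl l inf_le_left
      · rw [Category.assoc, pullback.lift_snd, pullback.lift_snd, ← Category.assoc]
        exact hl l' inf_le_right
    rw [← e, Scheme.Hom.comp_apply]
    have hsp : tM default ⤳ (⟨y, hl, hl'⟩ : M) := by
      rw [← M.ι.isOpenEmbedding.isInducing.specializes_iff, ← Scheme.Hom.comp_apply, htM]
      exact (specializes_iff_mem_closure (x := η)).2 hy.1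
    exact (hsp.map pr.continuous).mem_open (E l.1 l'.1).2 hyE
  -- every point of `C` is seen by some lift
  have hsurj : ∀ y ∈ C, ∃ l, y ∈ N l := by
    intro y hy
    obtain ⟨k, q, hq⟩ := hcov _ hy.2
    obtain ⟨A, ρ, hρt, hρy⟩ := exists_valuation_specialization t (y := y) (by
      rw [show t (closedPoint Ω) = η from
        congrArg _ (Subsingleton.elim (α := Spec (CommRingCat.of Ω)) _ _)]
      exact (specializes_iff_mem_closure (x := η)).2 hy.1)
    obtain ⟨σ, hσ, hσq⟩ := exists_lift_valuation (u k) A (ρ ≫ g) (q := q) (by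
      rw [Scheme.Hom.comp_apply, hρy]; exact hq)
    let gen := Spec.map (CommRingCat.ofHom (algebraMap A Ω))
    let l : L := ⟨k, gen ≫ σ, by rw [Category.assoc, hσ, ← Category.assoc, hρt, ht]⟩
    haveI : IsDominant gen := isDominant_generic A
    haveI := hπ k
    have e : ρ ≫ p l = σ ≫ J k :=
      ext_of_isDominant_of_isSeparated (π k)
        (by rw [Category.assoc, (hp l).1, Category.assoc, hJπ, hσ]) gen
        (by rw [← Category.assoc, hρt, (hp l).2]; exact Category.assoc _ _ _)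
    refine ⟨l, ?_⟩
    show p l y ∈ (J k).opensRange
    rw [← hρy, ← Scheme.Hom.comp_apply, e, Scheme.Hom.comp_apply]
    exact ⟨_, rfl⟩
  -- the lift `a` is seen by a point of `C`
  have hseen : ∀ (l : L), (∃ q, l.2.1 default ⤳ q ∧ u l.1 q ∈ Zs) → ∃ y ∈ C, y ∈ N l := by
    rintro l ⟨q, hq, hqZ⟩
    haveI := hπ l.1
    haveI : IsFinite (p l ≫ π l.1) := by rw [(hp l).1]; exact hg
    haveI : IsFinite (p l) := IsFinite.of_comp (p l) (π l.1)
    have h1 : p l η ⤳ J l.1 q := by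
      show p l (t default) ⤳ _
      rw [← Scheme.Hom.comp_apply, (hp l).2, Scheme.Hom.comp_apply]
      exact hq.map (J l.1).continuous
    obtain ⟨y, hy1, hy2⟩ := (p l).isClosedMap.specializingMap h1
    refine ⟨y, ⟨specializes_iff_mem_closure.1 hy1, ?_⟩, ?_⟩
    · show g y ∈ Zs
      rw [← (hp l).1, Scheme.Hom.comp_apply, hy2, ← Scheme.Hom.comp_apply, hJπ]
      exact hqZ
    · show p l y ∈ (J l.1).opensRange
      rw [hy2]; exact ⟨_, rfl⟩
  let la : L := ⟨i, a, rfl⟩
  let lb : L := ⟨j, b, h.symm⟩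
  obtain ⟨ya, hyaC, hyaN⟩ := hseen la ha
  obtain ⟨yb, hybC, hybN⟩ := hseen lb hb
  let S₁ : Set T' := ⋃ (l : L) (_ : Rel u E i l.1 a l.2.1), (N l : Set T')
  let S₂ : Set T' := ⋃ (l : L) (_ : ¬ Rel u E i l.1 a l.2.1), (N l : Set T')
  have hS₁ : IsOpen S₁ := isOpen_iUnion fun l => isOpen_iUnion fun _ => (N l).2
  have hS₂ : IsOpen S₂ := isOpen_iUnion fun l => isOpen_iUnion fun _ => (N l).2
  have hC : _root_.IsConnected C := hconn T' g hg η
  have hcov' : C ⊆ S₁ ∪ S₂ := fun y hy => by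
    obtain ⟨l, hl⟩ := hsurj y hy
    by_cases hr : Rel u E i l.1 a l.2.1
    · exact .inl (Set.mem_iUnion₂.2 ⟨l, hr, hl⟩)
    · exact .inr (Set.mem_iUnion₂.2 ⟨l, hr, hl⟩)
  have hdisj : C ∩ (S₁ ∩ S₂) = ∅ := Set.eq_empty_of_forall_notMem fun y ⟨hy, h₁, h₂⟩ => by
    obtain ⟨l, hl, hly⟩ := Set.mem_iUnion₂.1 h₁
    obtain ⟨l', hl', hly'⟩ := Set.mem_iUnion₂.1 h₂
    exact hl' (hE.trans _ _ _ Ω a l.2.1 l'.2.1 hl (hpair l l' y hy hly hly'))
  have hya : ya ∈ S₁ := Set.mem_iUnion₂.2 ⟨la, hE.refl i Ω a, hyaN⟩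
  have hall : ¬ (C ∩ S₂).Nonempty := fun hne => by
    obtain ⟨y, hy⟩ := hC.isPreconnected S₁ S₂ hS₁ hS₂ hcov' ⟨ya, hyaC, hya⟩ hne
    exact Set.eq_empty_iff_forall_notMem.1 hdisj y hy
  rcases hcov' hybC with h₁ | h₂
  · obtain ⟨l, hl, hly⟩ := Set.mem_iUnion₂.1 h₁
    exact hE.trans _ _ _ Ω a l.2.1 b hl (hpair l lb yb hybC hly hybN)
  · exact absurd ⟨yb, hybC, h₂⟩ hall

/-- local data agreeing near `Zs` agree on suitable opens covering everything -/
theorem exists_opens [CompactSpace P] [QuasiSeparatedSpace P] [Finite ι] [∀ i, IsAffine (U i)]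
    [∀ i, Etale (u i)] [∀ i, IsSeparated (u i)] [∀ i, QuasiCompact (u i)]
    (hE : IsEquivRel u E) {Zs : Set P} (hZ : IsClosed Zs) (hconn : HasConnectedParts Zs)
    (hcov : ∀ z ∈ Zs, ∃ (i : ι) (q : U i), u i q = z)
    (hZE : ∀ i j (w : ↥(pullback (u i) (u j))), u i (pullback.fst (u i) (u j) w) ∈ Zs → w ∈ E i j) :
    ∃ O : ∀ i, (U i).Opens, (∀ i (q : U i), u i q ∈ Zs → q ∈ O i) ∧ (∀ x : P, ∃ i, ∃ q ∈ O i, u i q = x) ∧
      ∀ i j (w : ↥(pullback (u i) (u j))), pullback.fst (u i) (u j) w ∈ O i →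
        pullback.snd (u i) (u j) w ∈ O j → w ∈ E i j := by
  classical
  let Good : ∀ i, U i → Prop := fun i q => ∀ (j : ι) (Ω : Type u) [Field Ω] [IsAlgClosed Ω]
    (a : Spec (CommRingCat.of Ω) ⟶ U i) (b : Spec (CommRingCat.of Ω) ⟶ U j), a default = q → a ≫ u i = b ≫ u j →
    (∃ r, b default ⤳ r ∧ u j r ∈ Zs) → Rel u E i j a b
  let O : ∀ i, (U i).Opens := fun i => ⟨interior {q | Good i q}, isOpen_interior⟩
  have hlift : ∀ x : P, ∃ (i : ι) (q : U i), u i q = x ∧ ∃ r, q ⤳ r ∧ u i r ∈ Zs := fun x => by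
    obtain ⟨z, hz, hxz⟩ := exists_specializes hconn x
    obtain ⟨i, r, hr⟩ := hcov z hz
    obtain ⟨q, hq, hqx⟩ := Flat.generalizingMap (u i) (hr.symm ▸ hxz : x ⤳ u i r)
    exact ⟨i, q, hqx, r, hq, hr.symm ▸ hz⟩
  have hO : ∀ i (q : U i), u i q ∈ Zs → q ∈ O i := by
    intro i q hq
    by_contra hn
    have hn' : ∀ W : Set (U i), IsOpen W → q ∈ W → ∃ y ∈ W, ¬ Good i y := fun W hW hqW => by
      by_contra hc
      push Not at hc
      exact hn (mem_interior.2 ⟨W, hc, hW, hqW⟩)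
    -- some index is bad near `q`
    have hj₀ : ∃ j : ι, ∀ W : Set (U i), IsOpen W → q ∈ W → ∃ w : ↥(pullback (u i) (u j)),
        pullback.fst (u i) (u j) w ∈ W ∧
        (∃ r, pullback.snd (u i) (u j) w ⤳ r ∧ u j r ∈ Zs) ∧ w ∉ E i j := by
      by_contra hc
      push Not at hc
      choose W hWo hqW hW using hc
      obtain ⟨y, hy, hbad⟩ := hn' (⋂ j, W j) (isOpen_iInter_of_finite hWo) (Set.mem_iInter.2 hqW)
      refine hbad fun j Ω _ _ a b hay hab hb => ⟨hab, ?_⟩
      have h2 : pullback.snd (u i) (u j) (pullback.lift a b hab default) = b default := by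
        rw [← Scheme.Hom.comp_apply, pullback.lift_snd]
      obtain ⟨r, hr, hrZ⟩ := hb
      refine hW j _ ?_ ⟨r, h2.symm ▸ hr, hrZ⟩
      rw [← Scheme.Hom.comp_apply, pullback.lift_fst, hay]
      exact Set.mem_iInter.1 hy j
    obtain ⟨j, hj⟩ := hj₀
    let W2 := pullback (u i) (u j)
    haveI : CompactSpace W2 := QuasiCompact.compactSpace_of_compactSpace (pullback.fst (u i) (u j))
    haveI : QuasiSeparatedSpace W2 := quasiSeparatedSpace_of_quasiSeparated (pullback.fst (u i) (u j))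
    haveI : SpectralSpace W2 := {}
    haveI : SpectralSpace (U i) := {}
    haveI : SpectralSpace (U j) := {}
    haveI : QuasiCompact (pullback.snd (u i) (u j)) := inferInstance
    let fam : Set (Set W2) :=
      {R | ∃ Q : Set (U i), R = pullback.fst (u i) (u j) ⁻¹' Q ∧ IsOpen Q ∧ IsCompact Q ∧ q ∈ Q} ∪
      {R | ∃ Q : Set (U j), R = pullback.snd (u i) (u j) ⁻¹' Q ∧ IsOpen Q ∧ IsCompact Q ∧ u j ⁻¹' Zs ⊆ Q} ∪
      {R | ∃ Q : Set W2, R = Qᶜ ∧ IsOpen Q ∧ IsCompact Q ∧ Q ⊆ E i j}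
    obtain ⟨y, hy⟩ := Graft.exists_mem_of_forall_finite (s := fam) (by
        rintro R ((⟨Q, rfl, hQ, hQc, -⟩ | ⟨Q, rfl, hQ, hQc, -⟩) | ⟨Q, rfl, hQ, hQc, -⟩)
        · exact .inl ⟨hQ.preimage (pullback.fst (u i) (u j)).continuous,
            (pullback.fst (u i) (u j)).isCompact_preimage (U := ⟨Q, hQ⟩) hQc⟩
        · exact .inl ⟨hQ.preimage (pullback.snd (u i) (u j)).continuous,
            (pullback.snd (u i) (u j)).isCompact_preimage (U := ⟨Q, hQ⟩) hQc⟩
        · exact .inr ⟨hQ.isClosed_compl, by rwa [compl_compl]⟩)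
      (by
        intro s hs
        let Wq : Set (U i) := ⋂ R ∈ s, if h : ∃ Q : Set (U i), R = pullback.fst (u i) (u j) ⁻¹' Q ∧ IsOpen Q ∧
          IsCompact Q ∧ q ∈ Q then h.choose else Set.univ
        have hWo : IsOpen Wq := isOpen_biInter_finset fun R _ => by
          split_ifs with h
          · exact h.choose_spec.2.1
          · exact isOpen_univ
        have hWq : q ∈ Wq := Set.mem_iInter₂.2 fun R _ => by
          split_ifs with h
          · exact h.choose_spec.2.2.2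
          · trivial
        obtain ⟨w, hw, ⟨r, hwr, hr⟩, hwE⟩ := hj Wq hWo hWq
        refine ⟨w, Set.mem_iInter₂.2 fun R hR => ?_⟩
        rcases hs R hR with (hR' | ⟨Q, rfl, hQ, -, hQZ⟩) | ⟨Q, rfl, -, -, hQE⟩
        · have hR'' : ∃ Q : Set (U i), R = pullback.fst (u i) (u j) ⁻¹' Q ∧ IsOpen Q ∧ IsCompact Q ∧ q ∈ Q := hR'
          have := Set.mem_iInter₂.1 hw R hR
          rw [dif_pos hR''] at this
          rw [hR''.choose_spec.1]
          exact this
        · exact hwr.mem_open hQ (hQZ hr)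
        · exact fun h => hwE (hQE h))
    have hyq : pullback.fst (u i) (u j) y ⤳ q := by
      refine specializes_iff_forall_open.2 fun Ω' hΩ' hqΩ => ?_
      obtain ⟨Q, hQo, hQc, hqQ, hQΩ⟩ := SpecLib.exists_qc hqΩ hΩ'
      exact hQΩ (hy _ (.inl (.inl ⟨Q, rfl, hQo, hQc, hqQ⟩)))
    have hyZ : ∃ r, pullback.snd (u i) (u j) y ⤳ r ∧ u j r ∈ Zs := by
      by_contra hc
      push Not at hc
      obtain ⟨Q, hQo, hQc, hKQ, hQy⟩ := Graft.exists_compact_open
        (Ω := (closure {pullback.snd (u i) (u j) y})ᶜ) isClosed_closure.isOpen_compl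
        ((hZ.preimage (u j).continuous).isCompact)
        (fun r hr hr' => hc r (specializes_iff_mem_closure.2 hr') hr)
      exact hQy (hy _ (.inl (.inr ⟨Q, rfl, hQo, hQc, hKQ⟩))) (subset_closure rfl)
    obtain ⟨Ω, _, _, c, hc⟩ := exists_geom_point y
    obtain ⟨h, hrel⟩ := rel_of_specializes hE hconn hcov hZE (c ≫ pullback.fst (u i) (u j))
      (c ≫ pullback.snd (u i) (u j)) (by rw [Category.assoc, Category.assoc, pullback.condition])
      ⟨q, by rw [Scheme.Hom.comp_apply, hc]; exact hyq, hq⟩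
      (by rw [Scheme.Hom.comp_apply, hc]; exact hyZ)
    have e : pullback.lift (c ≫ pullback.fst (u i) (u j)) (c ≫ pullback.snd (u i) (u j)) h = c :=
      pullback.hom_ext (pullback.lift_fst _ _ _) (pullback.lift_snd _ _ _)
    rw [e, hc] at hrel
    obtain ⟨Q, hQo, hQc, hyQ, hQE⟩ := SpecLib.exists_qc hrel (E i j).2
    exact hy _ (.inr ⟨Q, rfl, hQo, hQc, hQE⟩) hyQ
  refine ⟨O, hO, fun x => ?_, fun i j w hwi hwj => ?_⟩
  · obtain ⟨i, q, hq, r, hr, hrZ⟩ := hlift x
    exact ⟨i, q, hr.mem_open (O i).2 (hO i r hrZ), hq⟩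
  · obtain ⟨Ω, _, _, c, hc⟩ := exists_geom_point w
    let a := c ≫ pullback.fst (u i) (u j)
    let b := c ≫ pullback.snd (u i) (u j)
    have hab : a ≫ u i = b ≫ u j := by rw [Category.assoc, Category.assoc, pullback.condition]
    obtain ⟨k, q, hq, hr⟩ := hlift ((a ≫ u i) default)
    obtain ⟨d, hd, hdq⟩ := Scheme.exists_fac_of_etale_of_isSepClosed (u k) (a ≫ u i) q hq
    have h1 : Rel u E i k a d := interior_subset hwi k Ω a d (by rw [Scheme.Hom.comp_apply, hc]) hd.symm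
      (by rw [hdq]; exact hr)
    have h2 : Rel u E j k b d := interior_subset hwj k Ω b d (by rw [Scheme.Hom.comp_apply, hc])
      (hab.symm.trans hd.symm) (by rw [hdq]; exact hr)
    obtain ⟨h, hrel⟩ := hE.trans _ _ _ Ω a d b h1 (hE.symm _ _ Ω b d h2)
    have e : pullback.lift a b h = c := pullback.hom_ext (pullback.lift_fst _ _ _) (pullback.lift_snd _ _ _)
    rwa [e, hc] at hrel

end Groth.Agent.H0PBC
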