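import Groth.Agent.H0PBC.Germ

/-!
# The agreement relation of local sections of a sheaf
-/

set_option autoImplicit false
set_option linter.style.haveILetI false
set_option linter.unusedSectionVars false
set_option backward.isDefEq.respectTransparency.types false
universe u

open CategoryTheory CategoryTheory.Limits AlgebraicGeometry TopologicalSpace Opposite

namespace Groth.Agent.H0PBC

variable {X P : Scheme.{u}}

/-- the fibre product of two etale schemes over `X` -/
noncomputable def prodEt (U U' : X.Etale) : X.Etale :=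
  have : AlgebraicGeometry.Etale U.hom := U.prop
  have : AlgebraicGeometry.Etale U'.hom := U'.prop
  Scheme.Etale.mk (pullback.fst U.hom U'.hom ≫ U.hom)

/-- the first projection -/
noncomputable def prodEtFst (U U' : X.Etale) : prodEt U U' ⟶ U :=
  MorphismProperty.Over.homMk (pullback.fst U.hom U'.hom) rfl

/-- the second projection -/
noncomputable def prodEtSnd (U U' : X.Etale) : prodEt U U' ⟶ U' :=
  MorphismProperty.Over.homMk (pullback.snd U.hom U'.hom) pullback.condition.symm

variable {A : Type (u + 2)} [Category.{u + 1} A] [HasColimitsOfSize.{u, u} A]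
  {FA : A → A → Type*} {CA : A → Type (u + 1)}
  [∀ M N, FunLike (FA M N) (CA M) (CA N)] [ConcreteCategory.{u + 1} A FA]
  [PreservesFilteredColimitsOfSize.{u, u} (forget A)]
  (F : Sheaf X.smallEtaleTopology A)

/-- where two sections agree, on the fibre product -/
noncomputable def agree {U U' : X.Etale} (s : ToType (F.obj.obj (op U))) (t : ToType (F.obj.obj (op U'))) :
    (prodEt U U').left.Opens :=
  eqLocus F (F.obj.map (prodEtFst U U').op s) (F.obj.map (prodEtSnd U U').op t)

theorem mem_agree_iff {U U' : X.Etale} (s : ToType (F.obj.obj (op U))) (t : ToType (F.obj.obj (op U')))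
    {Ω : Type u} [Field Ω] [IsSepClosed Ω] (ξ : Spec (CommRingCat.of Ω) ⟶ X)
    (a : Spec (CommRingCat.of Ω) ⟶ U.left) (ha : a ≫ U.hom = ξ)
    (b : Spec (CommRingCat.of Ω) ⟶ U'.left) (hb : b ≫ U'.hom = ξ) :
    pullback.lift a b (ha.trans hb.symm) default ∈ agree F s t ↔ germ F s ξ a ha = germ F t ξ b hb := by
  let c : Spec (CommRingCat.of Ω) ⟶ (prodEt U U').left := pullback.lift a b (ha.trans hb.symm)
  have hc : c ≫ (prodEt U U').hom = ξ :=
    (Category.assoc _ _ _).symm.trans ((congrArg (· ≫ U.hom) (pullback.lift_fst _ _ _)).trans ha)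
  refine (mem_eqLocus_iff F _ _ ξ c hc).trans ?_
  have h1 : c ≫ (prodEtFst U U').left = a := pullback.lift_fst _ _ _
  have h2 : c ≫ (prodEtSnd U U').left = b := pullback.lift_snd _ _ _
  rw [germ_map F (prodEtFst U U') s ξ c hc a ha h1, germ_map F (prodEtSnd U U') t ξ c hc b hb h2]

variable (p : P ⟶ X) {ι : Type u} (U : ι → X.Etale) (s : ∀ i, ToType (F.obj.obj (op (U i))))
  {PU : ι → Scheme.{u}} (v : ∀ i, PU i ⟶ P) (q : ∀ i, PU i ⟶ (U i).left) (hq : ∀ i, q i ≫ (U i).hom = v i ≫ p)

/-- the agreement relation seen on `P` -/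
noncomputable def E (i j : ι) : (pullback (v i) (v j)).Opens :=
  pullback.map (v i) (v j) (U i).hom (U j).hom (q i) (q j) p (hq i).symm (hq j).symm ⁻¹ᵁ
    agree F (s i) (s j)

theorem mem_E_iff {i j : ι} {Ω : Type u} [Field Ω] [IsSepClosed Ω] (a : Spec (CommRingCat.of Ω) ⟶ PU i)
    (b : Spec (CommRingCat.of Ω) ⟶ PU j) (h : a ≫ v i = b ≫ v j) (ξ : Spec (CommRingCat.of Ω) ⟶ X)
    (ha : (a ≫ q i) ≫ (U i).hom = ξ) (hb : (b ≫ q j) ≫ (U j).hom = ξ) :
    pullback.lift a b h default ∈ E F p U s v q hq i j ↔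
      germ F (s i) ξ (a ≫ q i) ha = germ F (s j) ξ (b ≫ q j) hb := by
  refine Iff.trans (iff_of_eq ?_) (mem_agree_iff F (s i) (s j) ξ (a ≫ q i) ha (b ≫ q j) hb)
  show (pullback.map (v i) (v j) (U i).hom (U j).hom (q i) (q j) p (hq i).symm (hq j).symm
    (pullback.lift a b h default) ∈ agree F (s i) (s j)) = _
  congr 1
  refine (Scheme.Hom.comp_apply _ _ _).symm.trans (congrArg (fun k : Spec (CommRingCat.of Ω) ⟶
    (prodEt (U i) (U j)).left => k default) ?_)
  refine pullback.hom_ext ?_ ?_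
  · rw [Category.assoc, pullback.lift_fst, pullback.lift_fst_assoc, pullback.lift_fst]
  · rw [Category.assoc, pullback.lift_snd, pullback.lift_snd_assoc, pullback.lift_snd]

theorem isEquivRel_E : IsEquivRel v (E F p U s v q hq) where
  refl i Ω _ _ a := ⟨rfl, (mem_E_iff F p U s v q hq a a rfl _ rfl rfl).2 rfl⟩
  symm i j Ω _ _ a b := fun ⟨h, hE⟩ => by
    have e : (b ≫ q j) ≫ (U j).hom = (a ≫ q i) ≫ (U i).hom := by
      rw [Category.assoc, Category.assoc, hq, hq, ← Category.assoc, ← h, Category.assoc]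
    exact ⟨h.symm, (mem_E_iff F p U s v q hq b a h.symm _ e rfl).2
      ((mem_E_iff F p U s v q hq a b h _ rfl e).1 hE).symm⟩
  trans i j k Ω _ _ a b c := fun ⟨h, hE⟩ ⟨h', hE'⟩ => by
    have e : (b ≫ q j) ≫ (U j).hom = (a ≫ q i) ≫ (U i).hom := by
      rw [Category.assoc, Category.assoc, hq, hq, ← Category.assoc, ← h, Category.assoc]
    have e' : (c ≫ q k) ≫ (U k).hom = (a ≫ q i) ≫ (U i).hom := by
      rw [Category.assoc, Category.assoc, hq, hq, ← Category.assoc, ← h', ← h, Category.assoc]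
    exact ⟨h.trans h', (mem_E_iff F p U s v q hq a c (h.trans h') _ rfl e').2
      (((mem_E_iff F p U s v q hq a b h _ rfl e).1 hE).trans ((mem_E_iff F p U s v q hq b c h' _ e e').1 hE'))⟩

end Groth.Agent.H0PBC
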