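import Groth.Agent.EtFound.Germ
import Groth.Agent.EtFound.PropPush
import Groth.Agent.H0PBC.Core

/-!
# Loci of equal germs, gluing of sections with equal germs
-/

set_option autoImplicit false
set_option linter.style.haveILetI false
set_option linter.unusedSectionVars false
set_option backward.isDefEq.respectTransparency.types false
universe u

open CategoryTheory CategoryTheory.Limits AlgebraicGeometry TopologicalSpace Opposite

namespace Groth.Agent.H0PBC

variable {X : Scheme.{u}} {A : Type (u + 2)} [Category.{u + 1} A] [HasColimitsOfSize.{u, u} A]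
  {FA : A → A → Type*} {CA : A → Type (u + 1)}
  [∀ M N, FunLike (FA M N) (CA M) (CA N)] [ConcreteCategory.{u + 1} A FA]
  [PreservesFilteredColimitsOfSize.{u, u} (forget A)]

/-- the germ of a section at a point with values in a separably closed field -/
noncomputable def germ (F : Sheaf X.smallEtaleTopology A) {U : X.Etale} (s : ToType (F.obj.obj (op U)))
    {Ω : Type u} [Field Ω] [IsSepClosed Ω] (ξ : Spec (CommRingCat.of Ω) ⟶ X)
    (a : Spec (CommRingCat.of Ω) ⟶ U.left) (ha : a ≫ U.hom = ξ) :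
    ToType ((Scheme.pointSmallEtale ξ).sheafFiber.obj F) :=
  (Scheme.pointSmallEtale ξ).toPresheafFiber U (CategoryTheory.Over.homMk a ha) F.obj s

variable (F : Sheaf X.smallEtaleTopology A)

theorem germ_map {U V : X.Etale} (g : V ⟶ U) (s : ToType (F.obj.obj (op U))) {Ω : Type u} [Field Ω]
    [IsSepClosed Ω] (ξ : Spec (CommRingCat.of Ω) ⟶ X) (b : Spec (CommRingCat.of Ω) ⟶ V.left)
    (hb : b ≫ V.hom = ξ) (a : Spec (CommRingCat.of Ω) ⟶ U.left) (ha : a ≫ U.hom = ξ) (e : b ≫ g.left = a) :
    germ F (F.obj.map g.op s) ξ b hb = germ F s ξ a ha := by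
  subst e
  exact (Scheme.pointSmallEtale ξ).toPresheafFiber_w_apply g (CategoryTheory.Over.homMk b hb) F.obj s

/-- the locus where two sections have the same germs -/
def eqLocus {W : X.Etale} (a b : ToType (F.obj.obj (op W))) : W.left.Opens :=
  ⟨⋃ (V : X.Etale) (k : V ⟶ W) (_ : F.obj.map k.op a = F.obj.map k.op b), Set.range k.left,
    isOpen_iUnion fun _ => isOpen_iUnion fun k => isOpen_iUnion fun _ => by
      have := EtFound.etale_left k
      exact (Scheme.Hom.isOpenMap k.left).isOpen_range⟩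

theorem mem_eqLocus_iff {W : X.Etale} (s t : ToType (F.obj.obj (op W))) {Ω : Type u} [Field Ω] [IsSepClosed Ω]
    (ξ : Spec (CommRingCat.of Ω) ⟶ X) (a : Spec (CommRingCat.of Ω) ⟶ W.left) (ha : a ≫ W.hom = ξ) :
    a default ∈ eqLocus F s t ↔ germ F s ξ a ha = germ F t ξ a ha := by
  constructor
  · intro h
    obtain ⟨V, k, hk, x, hx⟩ : ∃ (V : X.Etale) (k : V ⟶ W) (_ : F.obj.map k.op s = F.obj.map k.op t),
        a default ∈ Set.range k.left := by
      simpa [eqLocus] using h
    obtain ⟨z, hz, -⟩ := EtFound.exists_lift_point k (CategoryTheory.Over.homMk a ha) x hx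
    refine (congrArg (fun q => (Scheme.pointSmallEtale ξ).toPresheafFiber W q F.obj s) hz.symm).trans
      (Eq.trans ?_ (congrArg (fun q => (Scheme.pointSmallEtale ξ).toPresheafFiber W q F.obj t) hz))
    refine ((Scheme.pointSmallEtale ξ).toPresheafFiber_w_apply k z F.obj s).symm.trans
      (Eq.trans ?_ ((Scheme.pointSmallEtale ξ).toPresheafFiber_w_apply k z F.obj t))
    exact congrArg _ hk
  · intro h
    obtain ⟨V, k, z, hz, hk⟩ :=
      ((Scheme.pointSmallEtale ξ).toPresheafFiber_eq_iff' W (CategoryTheory.Over.homMk a ha) s t).1 h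
    have e : (z.left : Spec (CommRingCat.of Ω) ⟶ V.left) ≫ k.left = a := congrArg CommaMorphism.left hz
    refine Set.mem_iUnion.2 ⟨V, Set.mem_iUnion.2 ⟨k, Set.mem_iUnion.2 ⟨hk, ?_⟩⟩⟩
    exact ⟨(z.left : Spec (CommRingCat.of Ω) ⟶ V.left) (default : Spec (CommRingCat.of Ω)), by
      rw [← e]; exact (Scheme.Hom.comp_apply _ _ _).symm⟩

variable [X.smallEtaleTopology.HasSheafCompose (forget A)]

/-- sections with the same germs at all geometric points are equal -/
theorem section_ext {U : X.Etale} (s t : ToType (F.obj.obj (op U)))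
    (h : ∀ (Ω : Type u) [Field Ω] [IsSepClosed Ω] (ξ : Spec (CommRingCat.of Ω) ⟶ X)
      (a : Spec (CommRingCat.of Ω) ⟶ U.left) (ha : a ≫ U.hom = ξ), germ F s ξ a ha = germ F t ξ a ha) :
    s = t := by
  refine (((isSheaf_iff_isSheaf_of_type _ _).1 ((sheafCompose X.smallEtaleTopology (forget A)).obj F).property).isSeparated
    _ (EtFound.equalizerSieve_mem_of_germs F.obj U s t fun Ω _ _ ξ u => ?_)).ext fun V g hg => hg
  exact h Ω ξ u.left (CategoryTheory.Over.w u)

/-- glueing along an etale cover, compatibility being checked on germs -/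
theorem exists_glue {T : X.Etale} {κ : Type u} {V : κ → X.Etale} (g : ∀ k, V k ⟶ T)
    (hcov : ∀ x : T.left, ∃ k, x ∈ Set.range (g k).left) (s : ∀ k, ToType (F.obj.obj (op (V k))))
    (h : ∀ (k l : κ) (Ω : Type u) [Field Ω] [IsSepClosed Ω] (ξ : Spec (CommRingCat.of Ω) ⟶ X)
      (a : Spec (CommRingCat.of Ω) ⟶ (V k).left) (ha : a ≫ (V k).hom = ξ)
      (b : Spec (CommRingCat.of Ω) ⟶ (V l).left) (hb : b ≫ (V l).hom = ξ),
      a ≫ (g k).left = b ≫ (g l).left → germ F (s k) ξ a ha = germ F (s l) ξ b hb) :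
    ∃ σ : ToType (F.obj.obj (op T)), ∀ k, F.obj.map (g k).op σ = s k := by
  have hs := ((isSheaf_iff_isSheaf_of_type _ _).1 ((sheafCompose X.smallEtaleTopology (forget A)).obj F).property)
    (Sieve.generate (Presieve.ofArrows _ g)) (X := T) (by
      refine (EtFound.mem_topology_iff _).2 fun x => ?_
      obtain ⟨k, y, hy⟩ := hcov x
      exact ⟨_, g k, y, Sieve.le_generate _ _ _ (Presieve.ofArrows.mk k), hy⟩)
  rw [← Presieve.isSheafFor_iff_generate, Presieve.isSheafFor_arrows_iff] at hs
  refine (hs s fun a b Z ga gb e => ?_).exists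
  refine section_ext F (F.obj.map ga.op (s a)) (F.obj.map gb.op (s b)) fun Ω _ _ ξ z hz => ?_
  have h1 : (z ≫ ga.left) ≫ (V a).hom = ξ := by
    rw [Category.assoc, MorphismProperty.Over.w ga]; exact hz
  have h2 : (z ≫ gb.left) ≫ (V b).hom = ξ := by
    rw [Category.assoc, MorphismProperty.Over.w gb]; exact hz
  rw [germ_map F ga (s a) ξ z hz _ h1 rfl, germ_map F gb (s b) ξ z hz _ h2 rfl]
  refine h a b Ω ξ _ h1 _ h2 ?_
  rw [Category.assoc, Category.assoc]
  exact congrArg (z ≫ ·) (congrArg (fun k => k.left) e)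

end Groth.Agent.H0PBC
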