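import Groth.Agent.H0PBC.Conn
import Groth.Agent.LocImmLib.ZMT
import Groth.Agent.EtFound.SectionUnr
import Groth.Agent.EtFound.Henselian
import Groth.Agent.Hensel.StrictSchemes
import Mathlib.AlgebraicGeometry.Morphisms.Etale
import Mathlib.AlgebraicGeometry.Morphisms.QuasiFinite

/-!
# Lifts of a geometric point to etale schemes and a finite scheme carrying all of them
-/

set_option autoImplicit false
set_option linter.style.haveILetI false
set_option backward.isDefEq.respectTransparency false
set_option backward.isDefEq.respectTransparency.types false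
universe u

open CategoryTheory CategoryTheory.Limits AlgebraicGeometry TopologicalSpace IsLocalRing

namespace Groth.Agent.H0PBC

variable {P : Scheme.{u}}

/-- finitely many points above a geometric point -/
theorem finite_lifts {U : Scheme.{u}} (u : U ⟶ P) [Etale u] [QuasiCompact u] {Ω : Type u} [Field Ω]
    (x : Spec (CommRingCat.of Ω) ⟶ P) : Finite {v : Spec (CommRingCat.of Ω) ⟶ U // v ≫ u = x} := by
  let W := pullback u x
  haveI : Finite W := by
    have h := (pullback.snd u x).finite_preimage_singleton (default : Spec (CommRingCat.of Ω))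
    have e : (pullback.snd u x) ⁻¹' {default} = (Set.univ : Set W) :=
      Set.eq_univ_of_forall fun w => Subsingleton.elim (pullback.snd u x w) default
    rw [e] at h
    exact Set.finite_univ_iff.1 h
  let s : {v : Spec (CommRingCat.of Ω) ⟶ U // v ≫ u = x} → (Spec (CommRingCat.of Ω) ⟶ W) := fun v =>
    pullback.lift v.1 (𝟙 _) (v.2.trans (Category.id_comp x).symm)
  refine Finite.of_injective (fun v => s v default) fun v v' h => ?_
  have e : s v' = s v := EtFound.section_eq_of_range_eq (pullback.snd u x) _ _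
    (pullback.lift_snd _ _ _) (pullback.lift_snd _ _ _) (by
      rw [Set.range_unique, Set.range_unique]
      exact congrArg _ h.symm)
  refine Subtype.ext ?_
  have := congrArg (· ≫ pullback.fst u x) e
  simp only [s, pullback.lift_fst] at this
  exact this.symm

/-- finitely many finite schemes with a point above a geometric point are dominated by one -/
theorem exists_finite_family {S : Scheme.{u}} (x : S ⟶ P) :
    ∀ (n : ℕ) (T : Fin n → Scheme.{u}) (π : ∀ k, T k ⟶ P) (_ : ∀ k, IsFinite (π k))
      (t : ∀ k, S ⟶ T k) (_ : ∀ k, t k ≫ π k = x),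
    ∃ (T' : Scheme.{u}) (g : T' ⟶ P) (s : S ⟶ T') (p : ∀ k, T' ⟶ T k),
      IsFinite g ∧ s ≫ g = x ∧ ∀ k, p k ≫ π k = g ∧ s ≫ p k = t k := by
  intro n
  induction n with
  | zero => exact fun T π _ t _ => ⟨P, 𝟙 P, x, fun k => k.elim0, inferInstance, Category.comp_id _, fun k => k.elim0⟩
  | succ n ih =>
    intro T π hπ t ht
    obtain ⟨T', g, s, p, hg, hs, hp⟩ := ih (fun k => T k.castSucc) (fun k => π k.castSucc)
      (fun k => hπ _) (fun k => t k.castSucc) (fun k => ht _)
    haveI := hπ (Fin.last n)
    refine ⟨pullback g (π (Fin.last n)), pullback.fst g (π (Fin.last n)) ≫ g,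
      pullback.lift s (t (Fin.last n)) (hs.trans (ht _).symm),
      Fin.lastCases (pullback.snd g (π (Fin.last n))) (fun k => pullback.fst g (π (Fin.last n)) ≫ p k),
      inferInstance, by rw [pullback.lift_fst_assoc, hs], fun k => ?_⟩
    refine Fin.lastCases ?_ (fun k => ?_) k
    · dsimp only
      rw [Fin.lastCases_last]
      exact ⟨pullback.condition.symm, pullback.lift_snd _ _ _⟩
    · dsimp only
      rw [Fin.lastCases_castSucc]
      refine ⟨?_, ?_⟩
      · rw [Category.assoc, (hp k).1]
      · rw [pullback.lift_fst_assoc, (hp k).2]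

theorem exists_finite_family' {S : Scheme.{u}} (x : S ⟶ P) {K : Type*} [Finite K] (T : K → Scheme.{u})
    (π : ∀ k, T k ⟶ P) [∀ k, IsFinite (π k)] (t : ∀ k, S ⟶ T k) (ht : ∀ k, t k ≫ π k = x) :
    ∃ (T' : Scheme.{u}) (g : T' ⟶ P) (s : S ⟶ T') (p : ∀ k, T' ⟶ T k),
      IsFinite g ∧ s ≫ g = x ∧ ∀ k, p k ≫ π k = g ∧ s ≫ p k = t k := by
  obtain ⟨n, ⟨e⟩⟩ := Finite.exists_equiv_fin K
  obtain ⟨T', g, s, p, hg, hs, hp⟩ := exists_finite_family x n (fun k => T (e.symm k)) (fun k => π _)
    (fun k => inferInstance) (fun k => t _) (fun k => ht _)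
  have key : ∀ k, ∃ q : T' ⟶ T k, q ≫ π k = g ∧ s ≫ q = t k := fun k => by
    obtain ⟨j, rfl⟩ := e.symm.surjective k
    exact ⟨p j, hp j⟩
  choose q hq using key
  exact ⟨T', g, s, q, hg, hs, hq⟩

/-- lifting a valuation ring valued point to an etale scheme through any given point of the special fibre -/
theorem exists_lift_valuation {U : Scheme.{u}} (u : U ⟶ P) [Etale u] {Ω : Type u} [Field Ω] [IsAlgClosed Ω]
    (A : ValuationSubring Ω) (r : Spec (CommRingCat.of A) ⟶ P) {q : U} (hq : u q = r (closedPoint A)) :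
    ∃ σ : Spec (CommRingCat.of A) ⟶ U, σ ≫ u = r ∧ σ (closedPoint A) = q := by
  haveI := henselianLocalRing_valuationSubring A
  haveI := isAlgClosed_residueField A
  obtain ⟨w, hw1, hw2⟩ := Scheme.Pullback.exists_preimage_pullback (f := u) (g := r) q (closedPoint A) hq
  obtain ⟨σ, h1, h2⟩ := (Hensel.strictlyHenselian_iff_exists_section A).1 ⟨inferInstance, inferInstance⟩
    (pullback u r) (pullback.snd u r) inferInstance w hw2
  refine ⟨σ ≫ pullback.fst u r, ?_, ?_⟩
  · rw [Category.assoc, pullback.condition, ← Category.assoc, h1, Category.id_comp]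
  · rw [Scheme.Hom.comp_apply, h2, hw1]

/-- a geometric point through any point -/
theorem exists_geom_point {X : Scheme.{u}} (x : X) : ∃ (Ω : Type u) (_ : Field Ω) (_ : IsAlgClosed Ω)
    (a : Spec (CommRingCat.of Ω) ⟶ X), a default = x := by
  refine ⟨AlgebraicClosure (X.residueField x), inferInstance, inferInstance,
    Spec.map (CommRingCat.ofHom (algebraMap (X.residueField x) _)) ≫ X.fromSpecResidueField x, ?_⟩
  rw [Scheme.Hom.comp_apply]
  exact Scheme.fromSpecResidueField_apply x _

end Groth.Agent.H0PBC
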