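import Groth.Agent.H0PBC.Pull
import Groth.Agent.H0PBC.Core
import Groth.Agent.EtFound.FinitePoints

/-!
# Global sections restrict bijectively to a closed subscheme with connected closed parts
-/

set_option autoImplicit false
set_option linter.style.haveILetI false
set_option linter.unusedSectionVars false
set_option backward.isDefEq.respectTransparency false
set_option backward.isDefEq.respectTransparency.types false
universe u

open CategoryTheory CategoryTheory.Limits AlgebraicGeometry TopologicalSpace Opposite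

namespace Groth.Agent.H0PBC

variable {X Z : Scheme.{u}} {A : Type (u + 2)} [Category.{u + 1} A] [HasColimitsOfSize.{u, u} A]
  [HasProducts.{u} A]
  [∀ {P Q : Scheme.{u}} (h : P ⟶ Q),
    ((EtCoh.bc h).sheafPushforwardContinuous A Q.smallEtaleTopology P.smallEtaleTopology).IsRightAdjoint]
  {FA : A → A → Type*} {CA : A → Type (u + 1)}
  [∀ M N, FunLike (FA M N) (CA M) (CA N)] [ConcreteCategory.{u + 1} A FA]
  [PreservesFilteredColimitsOfSize.{u, u} (forget A)]
  [∀ W : Scheme.{u}, W.smallEtaleTopology.HasSheafCompose (forget A)]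

omit [HasColimitsOfSize.{u, u} A] in
theorem isSeparated_of_isAffine_source {U P : Scheme.{u}} [IsAffine U] (v : U ⟶ P) : IsSeparated v :=
  haveI : IsSeparated (v ≫ terminal.from P) := by
    rw [terminal.comp_from]; infer_instance
  IsSeparated.of_comp v (terminal.from P)

omit [HasColimitsOfSize.{u, u} A] in
theorem quasiCompact_of_isAffine_source {U P : Scheme.{u}} [IsAffine U] [QuasiSeparatedSpace P] (v : U ⟶ P) :
    QuasiCompact v :=
  haveI : QuasiSeparated (terminal.from P) := (quasiSeparatedSpace_iff_quasiSeparated P).1 ‹_›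
  haveI : QuasiCompact (v ≫ terminal.from P) := by
    rw [terminal.comp_from]; infer_instance
  QuasiCompact.of_comp v (terminal.from P)

omit [HasColimitsOfSize.{u, u} A] in
theorem exists_top_point (i : Z ⟶ X) {Ω : Type u} [Field Ω] (ζ : Spec (CommRingCat.of Ω) ⟶ Z) :
    ∃ c : Spec (CommRingCat.of Ω) ⟶ ((EtCoh.bc i).obj (EtCoh.top X)).left,
      c ≫ ((EtCoh.bc i).obj (EtCoh.top X)).hom = ζ ∧ c ≫ pullback.fst (EtCoh.top X).hom i = ζ ≫ i :=
  ⟨pullback.lift (ζ ≫ i) ζ (Category.comp_id _), pullback.lift_snd _ _ _, pullback.lift_fst _ _ _⟩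

omit [HasColimitsOfSize.{u, u} A] in
theorem top_point_fst (i : Z ⟶ X) {Ω : Type u} [Field Ω] (ζ : Spec (CommRingCat.of Ω) ⟶ Z)
    (c : Spec (CommRingCat.of Ω) ⟶ ((EtCoh.bc i).obj (EtCoh.top X)).left)
    (hc : c ≫ ((EtCoh.bc i).obj (EtCoh.top X)).hom = ζ) : c ≫ pullback.fst (EtCoh.top X).hom i = ζ ≫ i := by
  have h := congrArg (· ≫ i) hc
  simp only [Category.assoc] at h
  rw [← h]
  refine congrArg (c ≫ ·) ?_
  exact (Category.comp_id _).symm.trans pullback.condition

/-- a section on the closed subscheme comes locally from sections on affine etale schemes -/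
theorem exists_local_data (i : Z ⟶ X) [IsClosedImmersion i] (F : Sheaf X.smallEtaleTopology A)
    (σ : ToType (((EtFound.pullA A i).obj F).obj.obj (op ((EtCoh.bc i).obj (EtCoh.top X))))) (z : Z) :
    ∃ (U : X.Etale) (_ : IsAffine U.left) (s : ToType (F.obj.obj (op U))),
      i z ∈ Set.range U.hom ∧
      ∀ (Ω : Type u) [Field Ω] [IsSepClosed Ω] (ζ : Spec (CommRingCat.of Ω) ⟶ Z)
        (a : Spec (CommRingCat.of Ω) ⟶ U.left) (ha : a ≫ U.hom = ζ ≫ i)
        (c : Spec (CommRingCat.of Ω) ⟶ ((EtCoh.bc i).obj (EtCoh.top X)).left) (hc : c ≫ ((EtCoh.bc i).obj (EtCoh.top X)).hom = ζ),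
        toPullStalk i F ζ _ rfl (germ F s (ζ ≫ i) a ha) = germ ((EtFound.pullA A i).obj F) σ ζ c hc := by
  let G := (EtFound.pullA A i).obj F
  let T := (EtCoh.bc i).obj (EtCoh.top X)
  obtain ⟨Ω, _, _, ζ, hζ⟩ := exists_geom_point z
  obtain ⟨c, hc, -⟩ := exists_top_point i ζ
  obtain ⟨U, s, a, ha, h⟩ := exists_germ_eq i F ζ _ rfl (germ G σ ζ c hc)
  let W := (EtCoh.bc i).obj U
  let d : W ⟶ T := MorphismProperty.Over.homMk
    (pullback.lift (pullback.fst U.hom i ≫ U.hom) (pullback.snd U.hom i)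
      ((Category.comp_id _).trans pullback.condition)) (pullback.lift_snd _ _ _) trivial
  let L := eqLocus G (pullSect i F s) (G.obj.map d.op σ)
  haveI : IsClosedImmersion (pullback.fst U.hom i) := inferInstance
  obtain ⟨Q, hQo, hQ⟩ := (pullback.fst U.hom i).isClosedEmbedding.isInducing.isOpen_iff.1 L.2
  let e : Spec (CommRingCat.of Ω) ⟶ W.left := pullback.lift a ζ ha
  have heL : e default ∈ L := by
    refine (mem_eqLocus_iff G _ _ ζ e (pullback.lift_snd _ _ _)).2 ?_
    rw [germ_pullSect i F ζ _ rfl s e _ a ha (pullback.lift_fst _ _ _), h]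
    refine (germ_map G d σ ζ e (pullback.lift_snd _ _ _) c hc ?_).symm
    refine pullback.hom_ext ?_ ?_
    · refine (Category.assoc _ _ _).trans ((congrArg (e ≫ ·) (pullback.lift_fst _ _ _)).trans ?_)
      exact (Category.assoc _ _ _).symm.trans ((congrArg (· ≫ U.hom) (pullback.lift_fst _ _ _)).trans
        (ha.trans (top_point_fst i ζ c hc).symm))
    · refine (Category.assoc _ _ _).trans ((congrArg (e ≫ ·) (pullback.lift_snd _ _ _)).trans ?_)
      exact (pullback.lift_snd _ _ _).trans hc.symm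
  have haQ : a default ∈ Q := by
    have h' := hQ.ge heL
    exact Set.mem_of_eq_of_mem ((congrArg (fun k : Spec (CommRingCat.of Ω) ⟶ U.left => k default)
      (pullback.lift_fst a ζ ha)).symm.trans (Scheme.Hom.comp_apply e (pullback.fst U.hom i) default)) h'
  obtain ⟨N, hN, haN, hNQ⟩ := exists_isAffineOpen_mem_and_subset (U := (⟨Q, hQo⟩ : U.left.Opens)) haQ
  refine ⟨EtFound.restrictEtale U N, hN, F.obj.map (EtFound.restrictEtaleHom U N).op s, ⟨⟨a default, haN⟩, ?_⟩, ?_⟩
  · show (N.ι ≫ U.hom) ⟨a default, haN⟩ = i z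
    rw [Scheme.Hom.comp_apply, ← hζ, ← Scheme.Hom.comp_apply ζ i, ← ha, Scheme.Hom.comp_apply]
    rfl
  · intro Ω' _ _ ζ' a' ha' c' hc'
    have ha'' : (a' ≫ N.ι) ≫ U.hom = ζ' ≫ i := (Category.assoc _ _ _).trans ha'
    rw [germ_map F (EtFound.restrictEtaleHom U N) s (ζ' ≫ i) a' ha' (a' ≫ N.ι) ha'' rfl]
    let e' : Spec (CommRingCat.of Ω') ⟶ W.left := pullback.lift (a' ≫ N.ι) ζ' ha''
    have he' : e' default ∈ L := by
      refine hQ.le ?_
      show pullback.fst U.hom i (e' default) ∈ Q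
      exact Set.mem_of_eq_of_mem ((Scheme.Hom.comp_apply e' (pullback.fst U.hom i) default).symm.trans
        ((congrArg (fun k : Spec (CommRingCat.of Ω') ⟶ U.left => k default)
          (pullback.lift_fst (a' ≫ N.ι) ζ' ha'')).trans (Scheme.Hom.comp_apply a' N.ι default)))
        (hNQ (a' default).2)
    have h' := (mem_eqLocus_iff G _ _ ζ' e' (pullback.lift_snd _ _ _)).1 he'
    rw [germ_pullSect i F ζ' _ rfl s e' _ _ ha'' (pullback.lift_fst _ _ _)] at h'
    refine h'.trans (germ_map G d σ ζ' e' (pullback.lift_snd _ _ _) c' hc' ?_)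
    refine pullback.hom_ext ?_ ?_
    · refine (Category.assoc _ _ _).trans ((congrArg (e' ≫ ·) (pullback.lift_fst _ _ _)).trans ?_)
      exact (Category.assoc _ _ _).symm.trans ((congrArg (· ≫ U.hom) (pullback.lift_fst _ _ _)).trans
        (ha''.trans (top_point_fst i ζ' c' hc').symm))
    · refine (Category.assoc _ _ _).trans ((congrArg (e' ≫ ·) (pullback.lift_snd _ _ _)).trans ?_)
      exact (pullback.lift_snd _ _ _).trans hc'.symm

/-- restriction of global sections to the closed subscheme is injective -/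
theorem injective_unit_top (i : Z ⟶ X) [IsClosedImmersion i] (hconn : HasConnectedParts (Set.range i))
    (F : Sheaf X.smallEtaleTopology A) :
    Function.Injective (pullSect i F (U := EtCoh.top X)) := by
  intro s t hst
  have hopen : ∀ x : X, x ∈ Set.range i → x ∈ eqLocus F s t := by
    rintro x ⟨z, rfl⟩
    obtain ⟨Ω, _, _, ζ, hζ⟩ := exists_geom_point z
    obtain ⟨c, hc, hc'⟩ := exists_top_point i ζ
    have e : (ζ ≫ i) default = i z := by rw [Scheme.Hom.comp_apply, hζ]
    rw [← e]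
    refine (mem_eqLocus_iff F s t (ζ ≫ i) (ζ ≫ i) (Category.comp_id _)).2 (toPullStalk_injective i F ζ _ rfl ?_)
    exact (germ_pullSect i F ζ _ rfl s c hc _ (Category.comp_id _) hc').symm.trans
      ((congrArg (fun y => germ ((EtFound.pullA A i).obj F) y ζ c hc) hst).trans
        (germ_pullSect i F ζ _ rfl t c hc _ (Category.comp_id _) hc'))
  refine section_ext F s t fun Ω _ _ ξ a ha => (mem_eqLocus_iff F s t ξ a ha).1 ?_
  obtain ⟨z, hz, hxz⟩ := exists_specializes hconn (a default : X)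
  exact hxz.mem_open (eqLocus F s t).2 (hopen z hz)

omit [HasColimitsOfSize.{u, u} A] in
/-- geometric points over a closed subscheme factor through it -/
theorem exists_fac_closed (i : Z ⟶ X) [IsClosedImmersion i] {Ω : Type u} [Field Ω] [IsAlgClosed Ω]
    (ξ : Spec (CommRingCat.of Ω) ⟶ X) (h : ξ default ∈ Set.range i) : ∃ ζ, ζ ≫ i = ξ := by
  obtain ⟨z, hz⟩ := h
  obtain ⟨w, -, -⟩ := Scheme.Pullback.exists_preimage_pullback (f := i) (g := ξ) z default hz
  obtain ⟨l, hl, -⟩ := EtFound.exists_section_of_integral (pullback.snd i ξ) w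
  exact ⟨l ≫ pullback.fst i ξ, by rw [Category.assoc, pullback.condition, reassoc_of% hl]⟩

/-- local lifts of one section agree over the closed subscheme -/
theorem agree_of_local_data (i : Z ⟶ X) [IsClosedImmersion i] (F : Sheaf X.smallEtaleTopology A)
    (σ : ToType (((EtFound.pullA A i).obj F).obj.obj (op ((EtCoh.bc i).obj (EtCoh.top X))))) {ι : Type u}
    (U : ι → X.Etale) (s : ∀ k, ToType (F.obj.obj (op (U k))))
    (hs : ∀ k (Ω : Type u) [Field Ω] [IsSepClosed Ω] (ζ : Spec (CommRingCat.of Ω) ⟶ Z)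
      (a : Spec (CommRingCat.of Ω) ⟶ (U k).left) (ha : a ≫ (U k).hom = ζ ≫ i)
      (c : Spec (CommRingCat.of Ω) ⟶ ((EtCoh.bc i).obj (EtCoh.top X)).left)
      (hc : c ≫ ((EtCoh.bc i).obj (EtCoh.top X)).hom = ζ),
      toPullStalk i F ζ _ rfl (germ F (s k) (ζ ≫ i) a ha) = germ ((EtFound.pullA A i).obj F) σ ζ c hc)
    (v : ∀ k, (U k).left ⟶ X) (hv : ∀ k, v k = (U k).hom) (k l : ι) (w : ↥(pullback (v k) (v l)))
    (hw : v k (pullback.fst (v k) (v l) w) ∈ Set.range i) :
    w ∈ E F (𝟙 X) U s v (fun k => 𝟙 _)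
      (fun k => (Category.id_comp _).trans ((hv k).symm.trans (Category.comp_id _).symm)) k l := by
  obtain ⟨Ω, _, _, c, hc⟩ := exists_geom_point w
  let a := c ≫ pullback.fst (v k) (v l)
  let b := c ≫ pullback.snd (v k) (v l)
  have hab : a ≫ v k = b ≫ v l := by rw [Category.assoc, Category.assoc, pullback.condition]
  obtain ⟨ζ, hζ⟩ := exists_fac_closed i (a ≫ v k) (by
    rw [Scheme.Hom.comp_apply, Scheme.Hom.comp_apply, hc]; exact hw)
  obtain ⟨cT, hcT, -⟩ := exists_top_point i ζ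
  have e : pullback.lift a b hab = c := pullback.hom_ext (pullback.lift_fst _ _ _) (pullback.lift_snd _ _ _)
  have ha : (a ≫ 𝟙 _) ≫ (U k).hom = ζ ≫ i := by rw [Category.comp_id, ← hv k]; exact hζ.symm
  have hb : (b ≫ 𝟙 _) ≫ (U l).hom = ζ ≫ i := by rw [Category.comp_id, ← hv l]; exact hab.symm.trans hζ.symm
  rw [← hc, ← e]
  exact (mem_E_iff F (𝟙 X) U s v (fun k => 𝟙 _) _ a b hab (ζ ≫ i) ha hb).2
    (toPullStalk_injective i F ζ _ rfl ((hs k Ω ζ _ ha cT hcT).trans (hs l Ω ζ _ hb cT hcT).symm))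

/-- an open piece of an etale scheme, over the whole scheme -/
noncomputable def toTop (U : X.Etale) (O : U.left.Opens) : EtFound.restrictEtale U O ⟶ EtCoh.top X :=
  MorphismProperty.Over.homMk (EtFound.restrictEtale U O).hom (Category.comp_id _) trivial

/-- sections agreeing on opens covering everything glue -/
theorem exists_glue_opens (F : Sheaf X.smallEtaleTopology A) {ι : Type u} (U : ι → X.Etale)
    (s : ∀ k, ToType (F.obj.obj (op (U k)))) (v : ∀ k, (U k).left ⟶ X) (hv : ∀ k, v k = (U k).hom)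
    (O : ∀ k, (U k).left.Opens) (hcov : ∀ x : X, ∃ k, ∃ q ∈ O k, v k q = x)
    (hOE : ∀ k l (w : ↥(pullback (v k) (v l))), pullback.fst (v k) (v l) w ∈ O k →
      pullback.snd (v k) (v l) w ∈ O l → w ∈ E F (𝟙 X) U s v (fun k => 𝟙 _)
        (fun k => (Category.id_comp _).trans ((hv k).symm.trans (Category.comp_id _).symm)) k l) :
    ∃ σ₀ : ToType (F.obj.obj (op (EtCoh.top X))),
      ∀ k, F.obj.map (toTop (U k) (O k)).op σ₀ = F.obj.map (EtFound.restrictEtaleHom (U k) (O k)).op (s k) := by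
  refine exists_glue F (fun k => toTop (U k) (O k)) (fun x => ?_) _ fun k l Ω _ _ ξ a ha b hb hab => ?_
  · obtain ⟨k, q, hq, hqx⟩ := hcov x
    exact ⟨k, ⟨q, hq⟩, by rw [hv k] at hqx; exact hqx⟩
  · have ha' : (a ≫ (O k).ι) ≫ (U k).hom = ξ := (Category.assoc _ _ _).trans ha
    have hb' : (b ≫ (O l).ι) ≫ (U l).hom = ξ := (Category.assoc _ _ _).trans hb
    refine (germ_map F (EtFound.restrictEtaleHom (U k) (O k)) (s k) ξ a ha _ ha' rfl).trans
      (Eq.trans ?_ (germ_map F (EtFound.restrictEtaleHom (U l) (O l)) (s l) ξ b hb _ hb' rfl).symm)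
    have h0 : (a ≫ (O k).ι) ≫ v k = (b ≫ (O l).ι) ≫ v l := by rw [hv k, hv l]; exact ha'.trans hb'.symm
    have h1 : ∀ (c : Spec (CommRingCat.of Ω) ⟶ (U k).left), (c ≫ 𝟙 _) = c := fun c => Category.comp_id c
    have hmem := hOE k l (pullback.lift (a ≫ (O k).ι) (b ≫ (O l).ι) h0 default) (by
        rw [← Scheme.Hom.comp_apply, pullback.lift_fst, Scheme.Hom.comp_apply]; exact (a default).2) (by
        rw [← Scheme.Hom.comp_apply, pullback.lift_snd, Scheme.Hom.comp_apply]; exact (b default).2)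
    have e1 : ((a ≫ (O k).ι) ≫ 𝟙 _) ≫ (U k).hom = ξ := by rw [Category.comp_id]; exact ha'
    have e2 : ((b ≫ (O l).ι) ≫ 𝟙 _) ≫ (U l).hom = ξ := by rw [Category.comp_id]; exact hb'
    have h := (mem_E_iff F (𝟙 X) U s v (fun k => 𝟙 _) _ (a ≫ (O k).ι) (b ≫ (O l).ι) h0 ξ e1 e2).1 hmem
    simpa only [Category.comp_id] using h

/-- restriction of global sections to the closed subscheme is bijective -/
theorem bijective_unit_top (i : Z ⟶ X) [IsClosedImmersion i] [CompactSpace X] [QuasiSeparatedSpace X]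
    (hconn : HasConnectedParts (Set.range i)) (F : Sheaf X.smallEtaleTopology A) :
    Function.Bijective (pullSect i F (U := EtCoh.top X)) := by
  classical
  let G := (EtFound.pullA A i).obj F
  let T := (EtCoh.bc i).obj (EtCoh.top X)
  refine ⟨injective_unit_top i hconn F, ?_⟩
  intro σ
  choose U hUaff s hzU hs using exists_local_data i F σ
  haveI : ∀ z, AlgebraicGeometry.Etale (U z).hom := fun z => (U z).prop
  haveI : CompactSpace Z := QuasiCompact.compactSpace_of_compactSpace i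
  obtain ⟨t, ht⟩ := (isCompact_range i.continuous).elim_finite_subcover (fun z => Set.range (U z).hom)
    (fun z => (Scheme.Hom.isOpenMap (U z).hom).isOpen_range)
    (by rintro _ ⟨z, rfl⟩; exact Set.mem_iUnion.2 ⟨z, hzU z⟩)
  let ι := {z // z ∈ t}
  let v : ∀ k : ι, (U k.1).left ⟶ X := fun k => (U k.1).hom
  haveI : ∀ k : ι, IsAffine (U k.1).left := fun k => hUaff _
  haveI : ∀ k : ι, IsSeparated (v k) := fun k => isSeparated_of_isAffine_source _
  haveI : ∀ k : ι, QuasiCompact (v k) := fun k => quasiCompact_of_isAffine_source _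
  haveI : ∀ k : ι, AlgebraicGeometry.Etale (v k) := fun k => (U k.1).prop
  let Erel := E F (𝟙 X) (fun k : ι => U k.1) (fun k => s k.1) v (fun k => 𝟙 _)
    (fun k => (Category.id_comp _).trans (Category.comp_id _).symm)
  have hcov' : ∀ z ∈ Set.range i, ∃ (k : ι) (q : (U k.1).left), v k q = z := fun z hz => by
    obtain ⟨k, hkt, q, hq⟩ := Set.mem_iUnion₂.1 (ht hz)
    exact ⟨⟨k, hkt⟩, q, hq⟩
  have hZE : ∀ k l (w : ↥(pullback (v k) (v l))), v k (pullback.fst (v k) (v l) w) ∈ Set.range i →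
      w ∈ Erel k l :=
    agree_of_local_data i F σ (fun k : ι => U k.1) (fun k => s k.1) (fun k Ω _ _ => hs k.1 Ω) v (fun _ => rfl)
  have hEq : IsEquivRel v Erel :=
    isEquivRel_E F (𝟙 X) (fun k : ι => U k.1) (fun k => s k.1) v (fun k => 𝟙 _)
      (fun k => (Category.id_comp _).trans (Category.comp_id _).symm)
  obtain ⟨O, hOZ, hOcov, hOE⟩ := exists_opens (u := v) (E := Erel) hEq i.isClosedEmbedding.isClosed_range hconn
    hcov' hZE
  obtain ⟨σ₀, hσ₀⟩ := exists_glue_opens F (fun k : ι => U k.1) (fun k => s k.1) v (fun _ => rfl) O hOcov hOE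
  let g : ∀ k : ι, EtFound.restrictEtale (U k.1) (O k) ⟶ EtCoh.top X := fun k => toTop (U k.1) (O k)
  refine ⟨σ₀, section_ext G _ _ fun Ω₀ _ _ ζ c hc => ?_⟩
  have hz : i (ζ default) ∈ Set.range i := ⟨_, rfl⟩
  obtain ⟨k, hkt, q, hq⟩ := Set.mem_iUnion₂.1 (ht hz)
  obtain ⟨a, ha, haq⟩ := Scheme.exists_fac_of_etale_of_isSepClosed (U k).hom (ζ ≫ i) q
    (hq.trans (Scheme.Hom.comp_apply _ _ _).symm)
  let a' : Spec (CommRingCat.of Ω₀) ⟶ (O ⟨k, hkt⟩ : Scheme.{u}) := IsOpenImmersion.lift (O ⟨k, hkt⟩).ι a (by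
    rintro _ ⟨y, rfl⟩
    refine Set.mem_of_eq_of_mem (s := Set.range (O ⟨k, hkt⟩).ι)
      ((congrArg a (Subsingleton.elim (α := Spec (CommRingCat.of Ω₀)) y _)).trans haq) ?_
    rw [Scheme.Opens.range_ι]
    exact hOZ ⟨k, hkt⟩ q ⟨ζ default, hq.symm⟩)
  have ha' : a' ≫ (O ⟨k, hkt⟩).ι = a := IsOpenImmersion.lift_fac _ _ _
  have hfst : c ≫ pullback.fst (EtCoh.top X).hom i = ζ ≫ i := top_point_fst i ζ c hc
  rw [germ_pullSect i F ζ _ rfl σ₀ c hc _ (Category.comp_id _) hfst,
    ← hs k Ω₀ ζ a ha c hc]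
  refine congrArg (toPullStalk i F ζ _ rfl) ?_
  have h1 : a' ≫ (g ⟨k, hkt⟩).left = ζ ≫ i := by
    show a' ≫ (O ⟨k, hkt⟩).ι ≫ (U k).hom = _
    rw [reassoc_of% ha', ha]
  rw [← germ_map F (g ⟨k, hkt⟩) σ₀ (ζ ≫ i) a' h1 (ζ ≫ i) (Category.comp_id _) h1, hσ₀]
  exact germ_map F (EtFound.restrictEtaleHom (U k) (O ⟨k, hkt⟩)) _ (ζ ≫ i) a' h1 a ha ha'

end Groth.Agent.H0PBC
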