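import Groth.Agent.Graft.SpecRestrict
import Mathlib.Topology.Sheaves.LocalPredicate

/-!
# If restriction of sections of all sheaves to a closed subset is bijective, the subset is connected
-/

set_option autoImplicit false
set_option linter.style.haveILetI false
set_option backward.isDefEq.respectTransparency false
set_option backward.isDefEq.respectTransparency.types false
universe u

open CategoryTheory CategoryTheory.Limits TopologicalSpace Opposite TopCat Topology

namespace Groth.Agent.H0PBC

variable {X : Type u} [TopologicalSpace X] {Z : Set X} (hZ : IsClosed Z)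

include hZ in
theorem isConnected_of_bijective_unit [PreconnectedSpace X] [Nonempty X]
    (hb : ∀ F : TopCat.Sheaf (Type u) (TopCat.of X), Function.Bijective (((TopCat.Sheaf.pullbackPushforwardAdjunction
      (Type u) (TopCat.ofHom ⟨(Subtype.val : Z → X), continuous_subtype_val⟩)).unit.app F).hom.app (op ⊤))) :
    _root_.IsConnected Z := by
  classical
  let i : TopCat.of Z ⟶ TopCat.of X := TopCat.ofHom ⟨(Subtype.val : Z → X), continuous_subtype_val⟩
  have hi : IsClosedEmbedding i := hZ.isClosedEmbedding_subtypeVal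
  let adj := TopCat.Sheaf.pullbackPushforwardAdjunction (Type u) i
  let F : TopCat.Sheaf (Type u) (TopCat.of X) := TopCat.subsheafToTypes (TopCat.continuousLocal (TopCat.of X) (ULift.{u} Bool))
  let G : TopCat.Sheaf (Type u) (TopCat.of X) :=
    (TopCat.Sheaf.pushforward (Type u) i).obj ((TopCat.Sheaf.pullback (Type u) i).obj F)
  let η : F.presheaf ⟶ G.presheaf := (adj.unit.app F).1
  have hbij : Function.Bijective (η.app (op ⊤)) := hb F
  have hst : ∀ (x : TopCat.of X), x ∈ Z →
      Function.Bijective ((TopCat.Presheaf.stalkFunctor (Type u) x).map η) := by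
    intro x hx
    obtain ⟨_, _⟩ := ShSpLib.pushforward_fullyFaithful hi.isInducing
    have : IsIso ((TopCat.Sheaf.pullback (Type u) i).map (adj.unit.app F)) := by
      have hc : IsIso (adj.counit.app ((TopCat.Sheaf.pullback (Type u) i).obj F)) :=
        ShSpLib.isIso_counit hi.isInducing _
      have : IsIso ((TopCat.Sheaf.pullback (Type u) i).map (adj.unit.app F) ≫
          adj.counit.app ((TopCat.Sheaf.pullback (Type u) i).obj F)) := by
        rw [adj.left_triangle_components F]; exact IsIso.id _
      exact IsIso.of_isIso_comp_right _ (adj.counit.app ((TopCat.Sheaf.pullback (Type u) i).obj F))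
    exact (isIso_iff_bijective _).1 ((NatIso.isIso_map_iff (ShSpLib.pullbackStalkIso i ⟨x, hx⟩)
      (adj.unit.app F)).1 ((TopCat.Sheaf.forget (Type u) (TopCat.of Z) ⋙
        TopCat.Presheaf.stalkFunctor (Type u) (⟨x, hx⟩ : TopCat.of Z)).map_isIso
          ((TopCat.Sheaf.pullback (Type u) i).map (adj.unit.app F))))
  have htriv : ∀ (x : TopCat.of X), x ∉ Z → ∀ a b : G.presheaf.stalk x, a = b := by
    intro x hx a b
    obtain ⟨u⟩ := ShSpLib.nonempty_unique_stalk_pushforward hi ((TopCat.Sheaf.pullback (Type u) i).obj F) x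
      (by rintro ⟨z, rfl⟩; exact hx z.2)
    exact (u.uniq a).trans (u.uniq b).symm
  have hgerm : ∀ (U : Opens (TopCat.of X)) (x) (hx : x ∈ U) (s : F.presheaf.obj (op U)),
      (TopCat.Presheaf.stalkFunctor (Type u) x).map η (F.presheaf.germ U x hx s) =
        G.presheaf.germ U x hx (η.app (op U) s) := fun U x hx s =>
    TopCat.Presheaf.stalkFunctor_map_germ_apply U x hx η s
  let cst : ∀ (_ : Bool) (U : Opens (TopCat.of X)), F.presheaf.obj (op U) := fun b U =>
    ⟨fun _ => ULift.up b, continuous_const⟩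
  -- values of global sections are constant
  have hconst : ∀ (τ : F.presheaf.obj (op ⊤)) (x y : TopCat.of X), τ.1 ⟨x, trivial⟩ = τ.1 ⟨y, trivial⟩ := by
    intro τ x y
    exact PreconnectedSpace.constant (f := fun z : X => τ.1 ⟨z, trivial⟩) ‹PreconnectedSpace X›
      ((τ.2 : Continuous τ.1).comp (Continuous.subtype_mk continuous_id _))
  have heval : ∀ (U V : Opens (TopCat.of X)) (x : TopCat.of X) (hU : x ∈ U) (hV : x ∈ V)
      (s : F.presheaf.obj (op U)) (t : F.presheaf.obj (op V)),
      F.presheaf.germ U x hU s = F.presheaf.germ V x hV t → s.1 ⟨x, hU⟩ = t.1 ⟨x, hV⟩ := by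
    intro U V x hU hV s t e
    obtain ⟨W, hxW, p, q, hpq⟩ := TopCat.Presheaf.germ_eq F.presheaf x hU hV s t e
    exact congrArg (fun r : F.presheaf.obj (op W) => r.1 ⟨x, hxW⟩) hpq
  refine ⟨?_, ?_⟩
  · by_contra he
    rw [Set.not_nonempty_iff_eq_empty] at he
    have h0 : η.app (op ⊤) (cst true ⊤) = η.app (op ⊤) (cst false ⊤) :=
      TopCat.Presheaf.section_ext G ⊤ _ _ fun x hx => htriv x (by simp [he]) _ _
    have h1 := congrArg (fun r : F.presheaf.obj (op ⊤) => r.1 ⟨Classical.arbitrary X, trivial⟩) (hbij.1 h0)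
    exact Bool.noConfusion (congrArg ULift.down h1)
  · intro A B hA hB hAB ⟨a, haZ, haA⟩ ⟨b, hbZ, hbB⟩
    by_contra hempty
    let W : Fin 3 → Opens (TopCat.of X) := ![⟨A, hA⟩, ⟨B, hB⟩, ⟨Zᶜ, hZ.isOpen_compl⟩]
    let val : Fin 3 → Bool := ![true, false, false]
    let sec : ∀ k : Fin 3, G.presheaf.obj (op (W k)) := fun k => η.app (op (W k)) (cst (val k) (W k))
    have hcompat : ∀ (k l : Fin 3) (x : TopCat.of X) (hk : x ∈ W k) (hl : x ∈ W l),
        G.presheaf.germ (W k) x hk (sec k) = G.presheaf.germ (W l) x hl (sec l) := by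
      intro k l x hk hl
      by_cases hx : x ∈ Z
      · have hkl : k = l := by
          have h01 : x ∈ W 0 → x ∈ W 1 → False := fun h0 h1 => hempty ⟨x, hx, h0, h1⟩
          have h2 : x ∈ W 2 → False := fun h => h hx
          match k, l, hk, hl with
          | 0, 0, _, _ | 1, 1, _, _ | 2, 2, _, _ => rfl
          | 0, 1, h, h' => exact (h01 h h').elim
          | 1, 0, h, h' => exact (h01 h' h).elim
          | 2, 0, h, _ | 2, 1, h, _ => exact (h2 h).elim
          | 0, 2, _, h | 1, 2, _, h => exact (h2 h).elim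
        subst hkl
        rfl
      · exact htriv x hx _ _
    obtain ⟨σ, hσ, -⟩ := G.existsUnique_gluing' W ⊤ (fun _ => homOfLE le_top) (fun x _ => by
        by_cases hx : x ∈ Z
        · rcases hAB hx with h | h
          · exact Opens.mem_iSup.2 ⟨0, h⟩
          · exact Opens.mem_iSup.2 ⟨1, h⟩
        · exact Opens.mem_iSup.2 ⟨2, hx⟩)
      sec (fun k l => TopCat.Presheaf.section_ext G _ _ _ fun x hx =>
        (TopCat.Presheaf.germ_res_apply G.presheaf (Opens.infLELeft (W k) (W l)) x hx (sec k)).trans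
          ((hcompat k l x hx.1 hx.2).trans
            (TopCat.Presheaf.germ_res_apply G.presheaf (Opens.infLERight (W k) (W l)) x hx (sec l)).symm))
    obtain ⟨τ, hτ⟩ := hbij.2 σ
    have key : ∀ (k : Fin 3) (x : TopCat.of X) (hx : x ∈ W k), x ∈ Z → τ.1 ⟨x, trivial⟩ = ULift.up (val k) := by
      intro k x hx hxZ
      refine heval ⊤ (W k) x trivial hx τ (cst (val k) (W k)) ((hst x hxZ).1 ?_)
      rw [hgerm, hgerm, hτ, ← TopCat.Presheaf.germ_res_apply G.presheaf (homOfLE (le_top : W k ≤ ⊤)) x hx σ, hσ k]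
    have h1 := (key 0 a haA haZ).symm.trans ((hconst τ a b).trans (key 1 b hbB hbZ))
    exact Bool.noConfusion (congrArg ULift.down h1)

end Groth.Agent.H0PBC
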